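import Cfsg.Agent.H87.RealP.Stab

/-!
# The correspondence between `K` and the normalizer of the Sylow subgroup in it
-/

set_option autoImplicit false
set_option linter.unusedSectionVars false
set_option linter.unusedVariables false
set_option linter.style.haveILetI false

open Cfsg H87.McKay
open scoped ComplexConjugate

namespace H87.RealP

attribute [local instance high] Fintype.ofFinite

universe u

variable {G : Type u} [Group G] [Finite G] {p : ℕ} [hp : Fact p.Prime] {P Q K X T : Subgroup G}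

/-- Fixed by `P` and of degree prime to `p`. -/
def Good (p : ℕ) (P : Subgroup G) {A : Subgroup G} (θ : IrrCharacter A) : Prop :=
  P ≤ st (θ : A → ℂ) ∧ ¬ p ∣ H12.degree (θ : A → ℂ)

/-- A fixed pair: the stabiliser constituent over a fixed linear character. -/
theorem fixed_pair [Q.Normal] (hQ : IsPGroup p Q) (hP : IsPGroup p P) (hQX : Q ≤ X)
    (hPX : P ≤ Subgroup.normalizer (X : Set G)) {θ : IrrCharacter X} (hθ : P ≤ st (θ : X → ℂ))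
    (lam : IrrCharacter Q) (hlam : P ≤ st (lam : Q → ℂ))
    (hne : mlt (θ : X → ℂ) (lam : Q → ℂ) ≠ 0) (hT : T = X ⊓ st (lam : Q → ℂ)) :
    ∃ φ : IrrCharacter T, mlt (φ : T → ℂ) (lam : Q → ℂ) ≠ 0 ∧ P ≤ st (φ : T → ℂ) ∧
      mlt (θ : X → ℂ) (φ : T → ℂ) = 1 ∧
      H12.degree (θ : X → ℂ) = T.relIndex X * H12.degree (φ : T → ℂ) ∧
      (∀ θ' : IrrCharacter X, mlt (θ' : X → ℂ) (φ : T → ℂ) ≠ 0 → θ' = θ) ∧
      ∀ φ' : IrrCharacter T, mlt (φ' : T → ℂ) (lam : Q → ℂ) ≠ 0 →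
        mlt (θ : X → ℂ) (φ' : T → ℂ) ≠ 0 → φ' = φ := by
  have hTX : T ≤ X := hT ▸ inf_le_left
  have hQT : Q ≤ T := hT ▸ le_inf hQX (le_st lam)
  have hPT : P ≤ Subgroup.normalizer (T : Set G) :=
    hT ▸ le_normalizer_inf hPX (normalizes_st lam hlam)
  obtain ⟨φ, h1, h2⟩ := exists_between hQT hTX θ hne
  obtain ⟨θ₀, e1, e2, e3, e4⟩ := clifford_pair hQX (fun g _ => nmem Q g) lam hT φ h2
  have he : θ = θ₀ := e3 θ h1
  subst he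
  refine ⟨φ, h2, fun u hu => (tw_eq_iff (hPT hu) φ).1 (e4 _ ?_ ?_), e1, e2, e3, e4⟩
  · have h := mlt_tw (nmem Q u) (hPT hu) hQT φ lam
    rw [(tw_eq_iff _ lam).2 (hlam hu)] at h
    rwa [h]
  · have h := mlt_tw (hPT hu) (hPX hu) hTX θ φ
    rw [(tw_eq_iff _ θ).2 (hθ hu)] at h
    rwa [h]

/-- A fixed character built from a fixed pair. -/
theorem fixed_ind [Q.Normal] (hQX : Q ≤ X) (hPX : P ≤ Subgroup.normalizer (X : Set G))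
    (lam : IrrCharacter Q) (hlam : P ≤ st (lam : Q → ℂ)) (hT : T = X ⊓ st (lam : Q → ℂ))
    {φ : IrrCharacter T} (hφ : mlt (φ : T → ℂ) (lam : Q → ℂ) ≠ 0) (hPφ : P ≤ st (φ : T → ℂ)) :
    ∃ θ : IrrCharacter X, P ≤ st (θ : X → ℂ) ∧ mlt (θ : X → ℂ) (lam : Q → ℂ) ≠ 0 ∧
      mlt (θ : X → ℂ) (φ : T → ℂ) = 1 ∧
      H12.degree (θ : X → ℂ) = T.relIndex X * H12.degree (φ : T → ℂ) ∧
      (∀ θ' : IrrCharacter X, mlt (θ' : X → ℂ) (φ : T → ℂ) ≠ 0 → θ' = θ) ∧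
      ∀ φ' : IrrCharacter T, mlt (φ' : T → ℂ) (lam : Q → ℂ) ≠ 0 →
        mlt (θ : X → ℂ) (φ' : T → ℂ) ≠ 0 → φ' = φ := by
  have hTX : T ≤ X := hT ▸ inf_le_left
  have hQT : Q ≤ T := hT ▸ le_inf hQX (le_st lam)
  have hPT : P ≤ Subgroup.normalizer (T : Set G) :=
    hT ▸ le_normalizer_inf hPX (normalizes_st lam hlam)
  obtain ⟨θ, e1, e2, e3, e4⟩ := clifford_pair hQX (fun g _ => nmem Q g) lam hT φ hφ
  refine ⟨θ, fun u hu => (tw_eq_iff (hPX hu) θ).1 (e3 _ ?_),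
    mlt_ne_zero_trans hQT hTX θ (by rw [e1]; exact one_ne_zero) hφ, e1, e2, e3, e4⟩
  have h := mlt_tw (hPT hu) (hPX hu) hTX θ φ
  rw [(tw_eq_iff _ φ).2 (hPφ hu)] at h
  rw [h, e1]
  exact one_ne_zero

variable (C : Ctx p P Q K)
include C

/-- Multiplicities agree with those in the stabilisers. -/
theorem mlt_pair {lam : IrrCharacter Q} {T T' : Subgroup G}
    (hT : T = K ⊓ st (lam : Q → ℂ))
    (hT' : T' = K ⊓ Subgroup.normalizer (P : Set G) ⊓ st (lam : Q → ℂ))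
    {θ : IrrCharacter K} {ψ : IrrCharacter (K ⊓ Subgroup.normalizer (P : Set G) : Subgroup G)}
    {φ : IrrCharacter T} {φ' : IrrCharacter T'}
    (hφ' : mlt (φ' : T' → ℂ) (lam : Q → ℂ) ≠ 0)
    (h1 : mlt (θ : K → ℂ) (φ : T → ℂ) = 1)
    (h4 : ∀ χ : IrrCharacter T, mlt (χ : T → ℂ) (lam : Q → ℂ) ≠ 0 →
        mlt (θ : K → ℂ) (χ : T → ℂ) ≠ 0 → χ = φ)
    (k1 : mlt (ψ : ↥(K ⊓ Subgroup.normalizer (P : Set G)) → ℂ) (φ' : T' → ℂ) = 1)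
    (k3 : ∀ ξ : IrrCharacter (K ⊓ Subgroup.normalizer (P : Set G) : Subgroup G),
      mlt (ξ : ↥(K ⊓ Subgroup.normalizer (P : Set G)) → ℂ) (φ' : T' → ℂ) ≠ 0 → ξ = ψ) :
    mlt (θ : K → ℂ) (ψ : ↥(K ⊓ Subgroup.normalizer (P : Set G)) → ℂ) =
      mlt (φ : T → ℂ) (φ' : T' → ℂ) := by
  have hTT : T' ≤ T := by rw [hT, hT']; exact inf_le_inf_right _ inf_le_left
  have hTK : T ≤ K := hT ▸ inf_le_left
  have hT'K : T' ≤ K ⊓ Subgroup.normalizer (P : Set G) := hT' ▸ inf_le_left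
  have hQT' : Q ≤ T' := hT' ▸ le_inf C.hQK' (le_st lam)
  have a := mlt_trans hTT hTK θ φ'
  rw [Finset.sum_eq_single φ, h1, one_mul] at a
  · have b := mlt_trans hT'K inf_le_left θ φ'
    rw [Finset.sum_eq_single ψ, k1, mul_one] at b
    · exact b.symm.trans a
    · intro ξ _ hne
      rw [show mlt (ξ : ↥(K ⊓ Subgroup.normalizer (P : Set G)) → ℂ) (φ' : T' → ℂ) = 0 from
        not_not.1 fun hc => hne (k3 ξ hc), mul_zero]
    · simp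
  · intro χ _ hne
    by_cases hc : mlt (χ : T → ℂ) (φ' : T' → ℂ) = 0
    · rw [hc, mul_zero]
    · rw [show mlt (θ : K → ℂ) (χ : T → ℂ) = 0 from
        not_not.1 fun hd => hne (h4 χ (mlt_ne_zero_trans hQT' hTT χ hc hφ') hd), zero_mul]
  · simp

/-- A character and its correspondent lie over the same fixed linear characters. -/
theorem over_fixed {θ : IrrCharacter K}
    {ψ : IrrCharacter (K ⊓ Subgroup.normalizer (P : Set G) : Subgroup G)}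
    (hm : mlt (θ : K → ℂ) (ψ : ↥(K ⊓ Subgroup.normalizer (P : Set G)) → ℂ) ≠ 0)
    {lam lam' : IrrCharacter Q} (hlam : P ≤ st (lam : Q → ℂ)) (hlam' : P ≤ st (lam' : Q → ℂ))
    (h : mlt (θ : K → ℂ) (lam : Q → ℂ) ≠ 0)
    (h' : mlt (ψ : ↥(K ⊓ Subgroup.normalizer (P : Set G)) → ℂ) (lam' : Q → ℂ) ≠ 0) :
    mlt (ψ : ↥(K ⊓ Subgroup.normalizer (P : Set G)) → ℂ) (lam : Q → ℂ) ≠ 0 := by
  haveI := C.nQ
  have h2 := mlt_ne_zero_trans C.hQK' inf_le_left θ hm h'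
  obtain ⟨k, hk, he⟩ := exists_conj C.hQK (C.XQ K) θ h2 h
  obtain ⟨n, hn, he'⟩ := fusion C.syl C.PK hlam' hlam hk he
  rw [← he', mlt_tw_self C.hQK' hn (nmem Q n) ψ lam']
  exact h'

theorem corr_exists {θ : IrrCharacter K} (hθ : Good p P θ) :
    ∃ ψ : IrrCharacter (K ⊓ Subgroup.normalizer (P : Set G) : Subgroup G), Good p P ψ ∧
      ¬ p ∣ mlt (θ : K → ℂ) (ψ : ↥(K ⊓ Subgroup.normalizer (P : Set G)) → ℂ) ∧
      ((H12.degree (θ : K → ℂ) : ZMod p) =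
          (H12.degree (ψ : ↥(K ⊓ Subgroup.normalizer (P : Set G)) → ℂ) : ZMod p) ∨
        (H12.degree (θ : K → ℂ) : ZMod p) =
          -(H12.degree (ψ : ↥(K ⊓ Subgroup.normalizer (P : Set G)) → ℂ) : ZMod p)) ∧
      ∀ ψ' : IrrCharacter (K ⊓ Subgroup.normalizer (P : Set G) : Subgroup G), Good p P ψ' →
        ¬ p ∣ mlt (θ : K → ℂ) (ψ' : ↥(K ⊓ Subgroup.normalizer (P : Set G)) → ℂ) → ψ' = ψ := by
  haveI := C.nQ
  obtain ⟨lam, hne, hlam, hlin⟩ := exists_fixed_lin C.hQ C.syl.pgroup C.hQK C.PK θ hθ.1 hθ.2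
  obtain ⟨φ, hφ, hPφ, h1, h2, -, h4⟩ := fixed_pair C.hQ C.syl.pgroup C.hQK C.PK hθ.1 lam hlam hne rfl
  obtain ⟨A, -, -⟩ := stab_corr C lam hlin hlam (T := K ⊓ st (lam : Q → ℂ))
    (T' := K ⊓ Subgroup.normalizer (P : Set G) ⊓ st (lam : Q → ℂ)) rfl rfl
  obtain ⟨φ', hφ', hPφ', hm, hdeg, huniq⟩ := A φ hφ hPφ
  obtain ⟨ψ, hPψ, hψlam, k1, k2, k3, -⟩ := fixed_ind C.hQK' C.PK' lam hlam rfl hφ' hPφ'
  have hidx : (((K ⊓ st (lam : Q → ℂ)).relIndex K : ℕ) : ZMod p) =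
      (((K ⊓ Subgroup.normalizer (P : Set G) ⊓ st (lam : Q → ℂ)).relIndex
        (K ⊓ Subgroup.normalizer (P : Set G)) : ℕ) : ZMod p) := by
    rw [Subgroup.inf_relIndex_left, Subgroup.inf_relIndex_left]
    exact idx_mod_rel C.syl C.PK hlam
  have hd : (H12.degree (θ : K → ℂ) : ZMod p) =
        (H12.degree (ψ : ↥(K ⊓ Subgroup.normalizer (P : Set G)) → ℂ) : ZMod p) ∨
      (H12.degree (θ : K → ℂ) : ZMod p) =
        -(H12.degree (ψ : ↥(K ⊓ Subgroup.normalizer (P : Set G)) → ℂ) : ZMod p) := by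
    rw [h2, k2, Nat.cast_mul, Nat.cast_mul, hidx]
    rcases hdeg with e | e <;> rw [e]
    · exact Or.inl rfl
    · exact Or.inr (mul_neg _ _)
  refine ⟨ψ, ⟨hPψ, fun h => hθ.2 ((ZMod.natCast_eq_zero_iff _ _).1 ?_)⟩, ?_, hd, fun ψ' hψ' hm' => ?_⟩
  · rw [← ZMod.natCast_eq_zero_iff] at h
    rcases hd with e | e <;> rw [e, h]
    exact neg_zero
  · rw [mlt_pair C rfl rfl hφ' h1 h4 k1 k3]
    exact hm
  · obtain ⟨lam', hne', hlam', -⟩ :=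
      exists_fixed_lin C.hQ C.syl.pgroup C.hQK' C.PK' ψ' hψ'.1 hψ'.2
    have hov := over_fixed C (fun h0 => hm' (h0 ▸ dvd_zero p)) hlam hlam' hne hne'
    obtain ⟨φ₂, hφ₂, hPφ₂, l1, -, l3, -⟩ := fixed_pair C.hQ C.syl.pgroup C.hQK' C.PK' hψ'.1 lam hlam hov
      (T := K ⊓ Subgroup.normalizer (P : Set G) ⊓ st (lam : Q → ℂ)) rfl
    have e : φ₂ = φ' := huniq φ₂ hφ₂ (by rwa [← mlt_pair C rfl rfl hφ₂ h1 h4 l1 l3])
    subst e
    exact k3 ψ' (by rw [l1]; exact one_ne_zero)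

theorem corr_injective {θ₁ θ₂ : IrrCharacter K} (h₁ : Good p P θ₁) (h₂ : Good p P θ₂)
    {ψ : IrrCharacter (K ⊓ Subgroup.normalizer (P : Set G) : Subgroup G)} (hψ : Good p P ψ)
    (m₁ : ¬ p ∣ mlt (θ₁ : K → ℂ) (ψ : ↥(K ⊓ Subgroup.normalizer (P : Set G)) → ℂ))
    (m₂ : ¬ p ∣ mlt (θ₂ : K → ℂ) (ψ : ↥(K ⊓ Subgroup.normalizer (P : Set G)) → ℂ)) : θ₁ = θ₂ := by
  haveI := C.nQ
  obtain ⟨lam, hne, hlam, hlin⟩ := exists_fixed_lin C.hQ C.syl.pgroup C.hQK' C.PK' ψ hψ.1 hψ.2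
  obtain ⟨φ', hφ', hPφ', k1, -, k3, -⟩ := fixed_pair C.hQ C.syl.pgroup C.hQK' C.PK' hψ.1 lam hlam hne
    (T := K ⊓ Subgroup.normalizer (P : Set G) ⊓ st (lam : Q → ℂ)) rfl
  obtain ⟨φ₁, g₁, hP₁, a1, -, a3, a4⟩ := fixed_pair C.hQ C.syl.pgroup C.hQK C.PK h₁.1 lam hlam
    (mlt_ne_zero_trans C.hQK' inf_le_left θ₁ (fun h0 => m₁ (h0 ▸ dvd_zero p)) hne)
    (T := K ⊓ st (lam : Q → ℂ)) rfl
  obtain ⟨φ₂, g₂, hP₂, b1, -, b3, b4⟩ := fixed_pair C.hQ C.syl.pgroup C.hQK C.PK h₂.1 lam hlam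
    (mlt_ne_zero_trans C.hQK' inf_le_left θ₂ (fun h0 => m₂ (h0 ▸ dvd_zero p)) hne)
    (T := K ⊓ st (lam : Q → ℂ)) rfl
  obtain ⟨-, B, -⟩ := stab_corr C lam hlin hlam (T := K ⊓ st (lam : Q → ℂ))
    (T' := K ⊓ Subgroup.normalizer (P : Set G) ⊓ st (lam : Q → ℂ)) rfl rfl
  have e : φ₁ = φ₂ := B φ₁ φ₂ g₁ g₂ hP₁ hP₂ φ' hφ'
    (by rwa [← mlt_pair C rfl rfl hφ' a1 a4 k1 k3]) (by rwa [← mlt_pair C rfl rfl hφ' b1 b4 k1 k3])
  subst e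
  exact b3 θ₁ (by rw [a1]; exact one_ne_zero)

theorem corr_surjective {ψ : IrrCharacter (K ⊓ Subgroup.normalizer (P : Set G) : Subgroup G)}
    (hψ : Good p P ψ) :
    ∃ θ : IrrCharacter K, Good p P θ ∧
      ¬ p ∣ mlt (θ : K → ℂ) (ψ : ↥(K ⊓ Subgroup.normalizer (P : Set G)) → ℂ) := by
  haveI := C.nQ
  obtain ⟨lam, hne, hlam, hlin⟩ := exists_fixed_lin C.hQ C.syl.pgroup C.hQK' C.PK' ψ hψ.1 hψ.2
  obtain ⟨φ', hφ', hPφ', k1, k2, k3, -⟩ := fixed_pair C.hQ C.syl.pgroup C.hQK' C.PK' hψ.1 lam hlam hne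
    (T := K ⊓ Subgroup.normalizer (P : Set G) ⊓ st (lam : Q → ℂ)) rfl
  obtain ⟨A, -, S'⟩ := stab_corr C lam hlin hlam (T := K ⊓ st (lam : Q → ℂ))
    (T' := K ⊓ Subgroup.normalizer (P : Set G) ⊓ st (lam : Q → ℂ)) rfl rfl
  obtain ⟨φ, hφ, hPφ, hm⟩ := S' φ' hφ'
  obtain ⟨θ, hPθ, hθlam, h1, h2, -, h4⟩ := fixed_ind C.hQK C.PK lam hlam rfl hφ hPφ
  obtain ⟨φ'', -, -, -, hdeg, huniq⟩ := A φ hφ hPφ
  rw [← huniq φ' hφ' hm] at hdeg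
  refine ⟨θ, ⟨hPθ, fun h => hψ.2 ((ZMod.natCast_eq_zero_iff _ _).1 ?_)⟩, ?_⟩
  · rw [← ZMod.natCast_eq_zero_iff, h2, Nat.cast_mul, Subgroup.inf_relIndex_left,
      idx_mod_rel C.syl C.PK hlam] at h
    rw [k2, Nat.cast_mul, Subgroup.inf_relIndex_left]
    rcases hdeg with e | e <;> rw [e] at h
    · exact h
    · rwa [mul_neg, neg_eq_zero] at h
  · rw [mlt_pair C rfl rfl hφ' h1 h4 k1 k3]
    exact hm

end H87.RealP
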