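import Cfsg.Agent.H87.RealP.Over
import Cfsg.Agent.H12.Linear

/-!
# Characters over an invariant linear character and a complement
-/

set_option autoImplicit false
set_option linter.unusedSectionVars false
set_option linter.unusedVariables false
set_option linter.style.haveILetI false

open Cfsg H87.McKay
open scoped ComplexConjugate

namespace H87.RealP

attribute [local instance high] Fintype.ofFinite

universe u

variable {G : Type u} [Group G] [Finite G] {Q T H : Subgroup G}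

/-- `H` is a complement of `Q` in `T`, and `lam` is linear and fixed by `T`. -/
structure Pack (Q T H : Subgroup G) (lam : IrrCharacter Q) : Prop where
  hQT : Q ≤ T
  hHT : H ≤ T
  cov : ∀ t ∈ T, ∃ q ∈ Q, ∃ h ∈ H, q * h = t
  disj : Q ⊓ H = ⊥
  hst : T ≤ st (lam : Q → ℂ)
  lin : H12.degree (lam : Q → ℂ) = 1

namespace Pack

variable {lam : IrrCharacter Q} (K : Pack Q T H lam)
include K

theorem degree_eq_mlt {φ : IrrCharacter T} (hφ : mlt (φ : T → ℂ) (lam : Q → ℂ) ≠ 0) :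
    H12.degree (φ : T → ℂ) = mlt (φ : T → ℂ) (lam : Q → ℂ) := by
  rw [degree_eq K.hQT K.hst φ hφ, K.lin, mul_one]

theorem norm_lam {q : G} (hq : q ∈ Q) : ‖cf (lam : Q → ℂ) q‖ = 1 := by
  obtain ⟨f, hf⟩ := H12.exists_monoidHom_of_apply_one_eq_one (H12.isCharacter_irr lam)
    (by rw [H12.irr_apply_one, K.lin, Nat.cast_one])
  rw [cf_apply _ hq, ← congrFun hf ⟨q, hq⟩]
  refine Complex.norm_eq_one_of_pow_eq_one (n := Nat.card Q) ?_ Nat.card_pos.ne'
  rw [← Units.val_pow_eq_pow_val, ← map_pow, pow_card_eq_one', map_one, Units.val_one]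

theorem scalar {φ : IrrCharacter T} (hφ : mlt (φ : T → ℂ) (lam : Q → ℂ) ≠ 0) {q x : G}
    (hq : q ∈ Q) (hx : x ∈ T) :
    cf (φ : T → ℂ) (q * x) = cf (lam : Q → ℂ) q * cf (φ : T → ℂ) x := by
  have hqT := K.hQT hq
  have hval := res_eq_mul K.hQT K.hst φ hφ hq
  rw [← K.degree_eq_mlt hφ, cf_apply _ hqT] at hval
  obtain ⟨d, ρ, hρ, hρφ⟩ := φ.2
  haveI := hρ
  have hdeg : H12.degree (φ : T → ℂ) = d := by
    rw [← hρφ, H12.degree_character, Module.finrank_fin_fun]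
  obtain ⟨ω, hω⟩ := H12.exists_scalar_of_norm_eq ρ ⟨q, hqT⟩ (by
    rw [congrFun hρφ _, hval, norm_mul, K.norm_lam hq, Complex.norm_natCast, hdeg,
      Module.finrank_fin_fun, mul_one])
  have htr : ρ.character ⟨q, hqT⟩ = ω * (d : ℂ) := by
    simp only [Representation.character, hω, map_smul, smul_eq_mul]
    rw [LinearMap.trace_id, Module.finrank_fin_fun]
  have hω' : ω = cf (lam : Q → ℂ) q := by
    rw [congrFun hρφ _, hval, hdeg, mul_comm] at htr
    exact (mul_right_cancel₀ (Nat.cast_ne_zero.2 (hdeg ▸ (H12.irr_degree_pos φ).ne')) htr).symm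
  rw [cf_apply _ (mul_mem hqT hx), cf_apply _ hx, ← hρφ,
    show (⟨q * x, mul_mem hqT hx⟩ : T) = ⟨q, hqT⟩ * ⟨x, hx⟩ from rfl]
  simp only [Representation.character, map_mul, hω, ← hω']
  rw [show ω • (LinearMap.id : (Fin d → ℂ) →ₗ[ℂ] (Fin d → ℂ)) * ρ ⟨x, hx⟩ = ω • ρ ⟨x, hx⟩ from
    LinearMap.ext fun v => rfl, map_smul, smul_eq_mul]

theorem ip_cover {f f' : G → ℂ}
    (hf : ∀ q ∈ Q, ∀ h ∈ H, f (q * h) = cf (lam : Q → ℂ) q * f h)
    (hf' : ∀ q ∈ Q, ∀ h ∈ H, f' (q * h) = cf (lam : Q → ℂ) q * f' h) :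
    ip T f f' = ip H f f' := by
  have h1 := sum_mul_fibre K.hQT K.hHT K.cov (fun t => f t * conj (f' t))
  have h2 := card_mul_fibre K.hQT K.hHT K.cov
  rw [K.disj, Subgroup.card_bot, one_mul] at h2
  rw [K.disj, Subgroup.card_bot, Nat.cast_one, one_mul] at h1
  simp only [ip, H12.classInner_def]
  have h3 : ∑ t : T, f t * conj (f' t) = (Nat.card Q : ℂ) * ∑ h : H, f h * conj (f' h) := by
    rw [h1, Finset.sum_congr rfl (g := fun _ => ∑ h : H, f h * conj (f' h)), Finset.sum_const,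
      nsmul_eq_mul, Finset.card_univ, Nat.card_eq_fintype_card]
    intro q _
    refine Finset.sum_congr rfl fun h _ => ?_
    rw [hf q q.2 h h.2, hf' q q.2 h h.2, map_mul]
    have hn : cf (lam : Q → ℂ) q * conj (cf (lam : Q → ℂ) q) = 1 := by
      rw [Complex.mul_conj', K.norm_lam q.2]; simp
    linear_combination (f h * conj (f' h)) * hn
  rw [h3, h2, Nat.cast_mul]
  field_simp

theorem ip_res {φ φ' : IrrCharacter T} (hφ : mlt (φ : T → ℂ) (lam : Q → ℂ) ≠ 0)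
    (hφ' : mlt (φ' : T → ℂ) (lam : Q → ℂ) ≠ 0) :
    ip H (cf (φ : T → ℂ)) (cf (φ' : T → ℂ)) = classInner (φ : T → ℂ) (φ' : T → ℂ) := by
  rw [← K.ip_cover (fun q hq h hh => K.scalar hφ hq (K.hHT hh))
    (fun q hq h hh => K.scalar hφ' hq (K.hHT hh)), ip_cf]

theorem exists_res {φ : IrrCharacter T} (hφ : mlt (φ : T → ℂ) (lam : Q → ℂ) ≠ 0) :
    ∃ β : IrrCharacter H, Extends (φ : T → ℂ) (β : H → ℂ) :=
  ⟨⟨fun h : H => cf (φ : T → ℂ) h, H12.isIrrCharacter_of_classInner_self_eq_one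
    (isCharacter_res K.hHT (H12.isCharacter_irr φ))
    ((K.ip_res hφ hφ).trans (H12.classInner_irr_self φ))⟩,
    fun a ha => (cf_apply (fun h : H => cf (φ : T → ℂ) h) ha).symm⟩

theorem res_inj {φ φ' : IrrCharacter T} (hφ : mlt (φ : T → ℂ) (lam : Q → ℂ) ≠ 0)
    (hφ' : mlt (φ' : T → ℂ) (lam : Q → ℂ) ≠ 0) {β : IrrCharacter H}
    (h : Extends (φ : T → ℂ) (β : H → ℂ)) (h' : Extends (φ' : T → ℂ) (β : H → ℂ)) : φ = φ' := by
  by_contra hne
  have := K.ip_res hφ hφ'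
  rw [ip_congr h h', ip_cf, H12.classInner_irr_self, H12.classInner_irr_ne hne] at this
  exact one_ne_zero this

theorem res_surj (β : IrrCharacter H) :
    ∃ φ : IrrCharacter T, mlt (φ : T → ℂ) (lam : Q → ℂ) ≠ 0 ∧
      Extends (φ : T → ℂ) (β : H → ℂ) := by
  classical
  choose r hr using fun φ : {φ : IrrCharacter T // mlt (φ : T → ℂ) (lam : Q → ℂ) ≠ 0} =>
    K.exists_res φ.2
  have hinj : Function.Injective r := fun a b e =>
    Subtype.ext (K.res_inj a.2 b.2 (hr a) (e ▸ hr b))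
  have hdeg : ∀ φ, H12.degree (r φ : H → ℂ) = mlt (φ.1 : T → ℂ) (lam : Q → ℂ) := fun φ => by
    rw [← K.degree_eq_mlt φ.2]
    have := hr φ 1 H.one_mem
    rw [← cast_degree, ← cast_degree] at this
    exact_mod_cast this.symm
  have h2 := card_mul_fibre K.hQT K.hHT K.cov
  rw [K.disj, Subgroup.card_bot, one_mul] at h2
  have h3 := Subgroup.card_mul_index (Q.subgroupOf T)
  rw [Nat.card_congr (Subgroup.subgroupOfEquivOfLe K.hQT).toEquiv, ← Subgroup.relIndex, h2] at h3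
  by_contra hno
  have hβ : β ∉ Finset.univ.image r := fun hm => by
    obtain ⟨φ, -, e⟩ := Finset.mem_image.1 hm
    exact hno ⟨φ.1, φ.2, e ▸ hr φ⟩
  have hsum : ∑ φ, H12.degree (r φ : H → ℂ) ^ 2 = Nat.card H := by
    rw [← Nat.eq_of_mul_eq_mul_left Nat.card_pos h3, ← sum_mlt_sq K.hQT K.hst]
    simp only [hdeg, pow_two]
    refine (Finset.sum_subtype (Finset.univ.filter fun φ : IrrCharacter T =>
      mlt (φ : T → ℂ) (lam : Q → ℂ) ≠ 0) (fun φ => by simp)
      (fun φ => mlt (φ : T → ℂ) (lam : Q → ℂ) * mlt (φ : T → ℂ) (lam : Q → ℂ))).symm.trans ?_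
    refine Finset.sum_filter_of_ne fun φ _ h h0 => h (by rw [h0, Nat.zero_mul])
  have hlt : ∑ γ ∈ Finset.univ.image r, H12.degree (γ : H → ℂ) ^ 2 <
      ∑ γ : IrrCharacter H, H12.degree (γ : H → ℂ) ^ 2 :=
    Finset.sum_lt_sum_of_subset (Finset.subset_univ _) (Finset.mem_univ β) hβ
      (pow_pos (H12.irr_degree_pos β) 2) fun j _ _ => Nat.zero_le _
  rw [Finset.sum_image fun a _ b _ e => hinj e, hsum, H12.sum_degree_sq_nat] at hlt
  exact lt_irrefl _ hlt

end Pack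

end H87.RealP
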