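import Cfsg.Agent.H87.RealP.Cover
import Cfsg.Agent.H20.GroupAlg

/-!
# Indices, fusion and constituents fixed by a Sylow subgroup
-/

set_option autoImplicit false
set_option linter.unusedSectionVars false
set_option linter.unusedVariables false
set_option linter.style.haveILetI false

open Cfsg H87.McKay
open scoped ComplexConjugate

namespace H87.RealP

attribute [local instance high] Fintype.ofFinite

universe u

variable {G : Type u} [Group G] [Finite G] {p : ℕ} [hp : Fact p.Prime] {A B P Q S X : Subgroup G}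

theorem nmem (A : Subgroup G) [A.Normal] (g : G) : g ∈ Subgroup.normalizer (A : Set G) := by
  rw [Subgroup.normalizer_eq_top]; exact Subgroup.mem_top g

theorem sup_decomp (hPX : P ≤ Subgroup.normalizer (X : Set G)) {g : G} (hg : g ∈ X ⊔ P) :
    ∃ x ∈ X, ∃ s ∈ P, x * s = g := by
  have hg' : g ∈ ((X ⊔ P : Subgroup G) : Set G) := hg
  rwa [Subgroup.coe_mul_of_right_le_normalizer_left _ _ hPX] at hg'

theorem le_normalizer_inf (hA : S ≤ Subgroup.normalizer (A : Set G))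
    (hB : S ≤ Subgroup.normalizer (B : Set G)) :
    S ≤ Subgroup.normalizer ((A ⊓ B : Subgroup G) : Set G) := fun s hs =>
  Subgroup.mem_normalizer_fintype fun a ha => Subgroup.mem_inf.2
    ⟨conj_mem' hA hs ha.1, conj_mem' hB hs ha.2⟩

/-- Indices of subgroups containing a Sylow subgroup, modulo the prime. -/
theorem idx_mod (hP : IsSyl p P (⊤ : Subgroup G)) (hA : P ≤ A) (hAB : A ≤ B) :
    (A.relIndex B : ZMod p) =
      ((A ⊓ Subgroup.normalizer (P : Set G)).relIndex (B ⊓ Subgroup.normalizer (P : Set G)) :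
        ZMod p) := by
  set N := Subgroup.normalizer (P : Set G) with hN
  have key : ∀ D : Subgroup G, P ≤ D → ((D ⊓ N).relIndex D : ZMod p) = 1 := by
    intro D hD
    have hs := hP.mono hD le_top
    let S : Sylow p D := (hs.pgroup.of_equiv (Subgroup.subgroupOfEquivOfLe hs.le).symm).toSylow
      hs.index
    have e : (D ⊓ N).subgroupOf D = Subgroup.normalizer (S : Set D) := by
      ext x
      rw [show (S : Set D) = ((S : Subgroup D) : Set D) from rfl, Subgroup.mem_subgroupOf, Subgroup.mem_inf,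
        show (S : Subgroup D) = P.subgroupOf D from rfl, H25.RealOdd.mem_normalizer_subgroupOf hD]
      exact ⟨fun h => h.2, fun h => ⟨x.2, h⟩⟩
    rw [Subgroup.relIndex, e, ← Sylow.card_eq_index_normalizer]
    have := card_sylow_modEq_one p D
    rw [← ZMod.natCast_eq_natCast_iff] at this
    rw [this, Nat.cast_one]
  have h1 := Subgroup.relIndex_mul_relIndex (A ⊓ N) A B inf_le_left hAB
  have h2 := Subgroup.relIndex_mul_relIndex (A ⊓ N) (B ⊓ N) B (inf_le_inf_right _ hAB) inf_le_left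
  have h3 : (((A ⊓ N).relIndex A * A.relIndex B : ℕ) : ZMod p) =
      (((A ⊓ N).relIndex (B ⊓ N) * (B ⊓ N).relIndex B : ℕ) : ZMod p) := by rw [h1, h2]
  rwa [Nat.cast_mul, Nat.cast_mul, key A hA, key B (hA.trans hAB), one_mul, mul_one] at h3

theorem rel_sup (hPX : P ≤ Subgroup.normalizer (X : Set G)) (hPS : P ≤ S) :
    (S ⊓ (X ⊔ P)).relIndex (X ⊔ P) = S.relIndex X := by
  have c1 := card_mul_fibre (T := X ⊔ P) (H := X) (K := P) le_sup_left le_sup_right
    fun t ht => sup_decomp hPX ht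
  have c2 := card_mul_fibre (T := S ⊓ (X ⊔ P)) (H := S ⊓ X) (K := P)
    (inf_le_inf_left S le_sup_left) (le_inf hPS le_sup_right) fun t ht => by
      obtain ⟨x, hx, s, hs, rfl⟩ := sup_decomp hPX ht.2
      exact ⟨x, Subgroup.mem_inf.2 ⟨(S.mul_mem_cancel_right (hPS hs)).1 ht.1, hx⟩, s, hs, rfl⟩
  have e : S ⊓ X ⊓ P = X ⊓ P := by
    rw [inf_comm S X, inf_assoc, inf_eq_right.2 hPS]
  rw [e] at c2
  have h1 := Subgroup.card_mul_index ((S ⊓ (X ⊔ P)).subgroupOf (X ⊔ P))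
  rw [Nat.card_congr (Subgroup.subgroupOfEquivOfLe
    (inf_le_right : S ⊓ (X ⊔ P) ≤ X ⊔ P)).toEquiv, ← Subgroup.relIndex] at h1
  have h2 := Subgroup.card_mul_index ((S ⊓ X).subgroupOf X)
  rw [Nat.card_congr (Subgroup.subgroupOfEquivOfLe (inf_le_right : S ⊓ X ≤ X)).toEquiv,
    ← Subgroup.relIndex, Subgroup.inf_relIndex_right] at h2
  refine Nat.eq_of_mul_eq_mul_left
    (Nat.mul_pos (Nat.card_pos (α := (S ⊓ X : Subgroup G))) (Nat.card_pos (α := P))) ?_
  calc Nat.card (S ⊓ X : Subgroup G) * Nat.card P * (S ⊓ (X ⊔ P)).relIndex (X ⊔ P)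
      = Nat.card (X ⊓ P : Subgroup G) * (Nat.card ↥(S ⊓ (X ⊔ P)) *
          (S ⊓ (X ⊔ P)).relIndex (X ⊔ P)) := by rw [← c2]; ring
    _ = Nat.card X * Nat.card P := by rw [h1, c1]
    _ = Nat.card (S ⊓ X : Subgroup G) * Nat.card P * S.relIndex X := by rw [← h2]; ring

/-- The index over a subgroup normalised by `P`, modulo the prime. -/
theorem idx_mod_rel (hP : IsSyl p P (⊤ : Subgroup G)) (hPX : P ≤ Subgroup.normalizer (X : Set G))
    (hPS : P ≤ S) :
    (S.relIndex X : ZMod p) = (S.relIndex (X ⊓ Subgroup.normalizer (P : Set G)) : ZMod p) := by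
  set N := Subgroup.normalizer (P : Set G) with hN
  have hX' : P ≤ Subgroup.normalizer ((X ⊓ N : Subgroup G) : Set G) :=
    le_normalizer_inf hPX (Subgroup.le_normalizer.trans Subgroup.le_normalizer)
  have e : (X ⊔ P) ⊓ N = (X ⊓ N) ⊔ P := by
    refine le_antisymm (fun g hg => ?_) (sup_le (inf_le_inf_right _ le_sup_left)
      (le_inf le_sup_right Subgroup.le_normalizer))
    obtain ⟨x, hx, s, hs, rfl⟩ := sup_decomp hPX hg.1
    exact mul_mem (Subgroup.mem_sup_left (Subgroup.mem_inf.2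
      ⟨hx, (N.mul_mem_cancel_right (Subgroup.le_normalizer hs)).1 hg.2⟩)) (Subgroup.mem_sup_right hs)
  rw [← rel_sup hPX hPS, ← rel_sup hX' hPS,
    idx_mod hP (le_inf hPS le_sup_right) inf_le_right, ← hN, inf_assoc, e]

/-- Fixed characters conjugate in `X` are conjugate in `X ∩ N(P)`. -/
theorem fusion [A.Normal] (hP : IsSyl p P (⊤ : Subgroup G))
    (hPX : P ≤ Subgroup.normalizer (X : Set G)) {θ θ' : IrrCharacter A}
    (hθ : P ≤ st (θ : A → ℂ)) (hθ' : P ≤ st (θ' : A → ℂ)) {x : G} (hx : x ∈ X)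
    (he : tw (nmem A x) θ = θ') :
    ∃ n ∈ X ⊓ Subgroup.normalizer (P : Set G), tw (nmem A n) θ = θ' := by
  obtain ⟨t, ht, htn⟩ := (hP.mono le_sup_right le_top : IsSyl p P (X ⊔ P)).frattini
    (T := (X ⊔ P) ⊓ st (θ : A → ℂ)) (le_inf le_sup_right hθ) inf_le_left
    (Subgroup.mem_sup_left hx) (fun s hs => Subgroup.mem_inf.2
      ⟨mul_mem (mul_mem (Subgroup.mem_sup_left hx) (Subgroup.mem_sup_right hs))
        (inv_mem (Subgroup.mem_sup_left hx)), (st_tw_iff (nmem A x) θ).1 (by rw [he]; exact hθ' hs)⟩)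
  obtain ⟨k, hk, s, hs, hks⟩ := sup_decomp hPX (mul_mem ht.1 (Subgroup.mem_sup_left hx))
  refine ⟨k, Subgroup.mem_inf.2 ⟨hk,
    ((Subgroup.normalizer (P : Set G)).mul_mem_cancel_right (Subgroup.le_normalizer hs)).1
      (hks ▸ htn)⟩, ?_⟩
  have h1 : tw (nmem A (t * x)) θ = θ' := by
    rw [← tw_tw (nmem A x) (nmem A t) θ, (tw_eq_iff (nmem A t) θ).2 ht.2, he]
  rw [tw_congr (show k = t * x * s⁻¹ by rw [← hks]; group) _ (nmem A _),
    ← tw_tw (nmem A s⁻¹) (nmem A (t * x)) θ, h1, tw_eq_iff]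
  exact inv_mem (hθ' hs)

open scoped H25.RealP in
/-- A fixed constituent on a normal `p`-subgroup, of degree one. -/
theorem exists_fixed_lin [Q.Normal] (hQ : IsPGroup p Q) (hP : IsPGroup p P) (hQX : Q ≤ X)
    (hPX : P ≤ Subgroup.normalizer (X : Set G)) (θ : IrrCharacter X) (hθ : P ≤ st (θ : X → ℂ))
    (hdeg : ¬ p ∣ H12.degree (θ : X → ℂ)) :
    ∃ lam : IrrCharacter Q, mlt (θ : X → ℂ) (lam : Q → ℂ) ≠ 0 ∧ P ≤ st (lam : Q → ℂ) ∧
      H12.degree (lam : Q → ℂ) = 1 := by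
  classical
  have hsmul : ∀ (u : G) (lam : IrrCharacter Q), u • lam = tw (nmem Q u⁻¹) lam := fun u lam =>
    Subtype.ext (funext fun k => by
      rw [H25.RealP.irr_smul_apply, ← cf_coe (lam : Q → ℂ),
        ← cf_coe (tw (nmem Q u⁻¹) lam : Q → ℂ), tw_apply _ _ k.2, MulAut.conjNormal_apply])
  have hdec : (H12.degree (θ : X → ℂ) : ZMod p) = ∑ lam : IrrCharacter Q,
      ((mlt (θ : X → ℂ) (lam : Q → ℂ) * H12.degree (lam : Q → ℂ) : ℕ) : ZMod p) := by
    have h1 := res_eq_sum hQX θ Q.one_mem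
    simp only [← cast_degree] at h1
    have h2 : H12.degree (θ : X → ℂ) =
        ∑ lam : IrrCharacter Q, mlt (θ : X → ℂ) (lam : Q → ℂ) * H12.degree (lam : Q → ℂ) := by
      exact_mod_cast h1
    rw [h2, Nat.cast_sum]
  have hinv : ∀ (u : P) (lam : IrrCharacter Q),
      ((mlt (θ : X → ℂ) ((u • lam : IrrCharacter Q) : Q → ℂ) *
        H12.degree ((u • lam : IrrCharacter Q) : Q → ℂ) : ℕ) : ZMod p) =
      ((mlt (θ : X → ℂ) (lam : Q → ℂ) * H12.degree (lam : Q → ℂ) : ℕ) : ZMod p) := by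
    intro u lam
    rw [Subgroup.smul_def, hsmul, degree_tw]
    have h1 := mlt_tw (nmem Q (u : G)⁻¹) (hPX (inv_mem u.2)) hQX θ lam
    rw [(tw_eq_iff _ θ).2 (inv_mem (hθ u.2))] at h1
    rw [h1]
  rw [H20.sum_eq_sum_fixedPoints hP (fun r => by rw [nsmul_eq_mul, ZMod.natCast_self, zero_mul]) _
    hinv] at hdec
  obtain ⟨lam, hlam, hne⟩ := Finset.exists_ne_zero_of_sum_ne_zero
    (fun h => hdeg ((ZMod.natCast_eq_zero_iff _ _).1 (hdec.trans h)))
  rw [Finset.mem_filter] at hlam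
  have hm : mlt (θ : X → ℂ) (lam : Q → ℂ) ≠ 0 := fun h0 => hne (by rw [h0, Nat.zero_mul, Nat.cast_zero])
  refine ⟨lam, hm, fun u hu => ?_, ?_⟩
  · have h1 := hlam.2 ⟨u⁻¹, inv_mem hu⟩
    rw [Subgroup.smul_def, hsmul, tw_eq_iff] at h1
    simpa using h1
  · have hd : ¬ p ∣ H12.degree (lam : Q → ℂ) := fun h =>
      hne (by rw [(ZMod.natCast_eq_zero_iff _ _).2 (h.mul_left _)])
    obtain ⟨n, hn⟩ := IsPGroup.iff_card.1 hQ
    obtain ⟨j, -, hj⟩ := (Nat.dvd_prime_pow hp.out).1 (hn ▸ H12.irr_degree_dvd_card lam)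
    rcases Nat.eq_zero_or_pos j with rfl | h0
    · rw [hj, pow_zero]
    · exact absurd (hj ▸ dvd_pow_self p h0.ne') hd

end H87.RealP
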