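import Cfsg.Agent.H87.RealP.Corr

/-!
# Real characters of degree prime to `p` and the normalizer of a Sylow subgroup
-/

set_option autoImplicit false
set_option linter.unusedSectionVars false
set_option linter.unusedVariables false
set_option linter.style.haveILetI false

open Cfsg H87.McKay
open scoped ComplexConjugate

namespace H87.RealP

attribute [local instance high] Fintype.ofFinite

universe u

variable {G : Type u} [Group G] [Finite G] {p : ℕ} [hp : Fact p.Prime] {P Q K A X : Subgroup G}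

theorem good_conj {θ : IrrCharacter A} (h : Good p P θ) : Good p P (H12.conjIrr θ) :=
  ⟨by rw [st_conj]; exact h.1, by rw [degree_conj]; exact h.2⟩

theorem good_tw {x : G} (hxA : x ∈ Subgroup.normalizer (A : Set G))
    (hxP : x ∈ Subgroup.normalizer (P : Set G)) {θ : IrrCharacter A} (h : Good p P θ) :
    Good p P (tw hxA θ) :=
  ⟨st_inv_tw h.1 hxA hxP, by rw [degree_tw]; exact h.2⟩

theorem tw_real {x : G} (hx : x ∈ Subgroup.normalizer (A : Set G)) {θ : IrrCharacter A}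
    (h : H12.conjIrr θ = θ) : H12.conjIrr (tw hx θ) = tw hx θ := by
  rw [← tw_conj, h]

/-- A fixed constituent. -/
theorem exists_good_conj (hP : IsSyl p P X) (hAX : A ≤ X)
    (hX : X ≤ Subgroup.normalizer (A : Set G)) {θ : IrrCharacter A}
    (hdeg : ¬ p ∣ (st (θ : A → ℂ)).relIndex X * H12.degree (θ : A → ℂ)) :
    ∃ x, ∃ hx : x ∈ X, Good p P (tw (hX hx) θ) := by
  obtain ⟨x, hx, hs⟩ := hP.exists_of_not_dvd (T := X ⊓ st (θ : A → ℂ)) inf_le_left
    (fun h => hdeg (by rw [Subgroup.inf_relIndex_left] at h; exact h.mul_right _))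
  exact ⟨x, hx, fun s h => (st_tw_iff (hX hx) θ).2 (hs s h).2,
    fun h => hdeg ((degree_tw (hX hx) θ ▸ h).mul_left _)⟩

variable (C : Ctx p P Q K) (hodd : Odd K.index)
  (hreal : ∀ χ : IrrCharacter (⊤ : Subgroup G), H12.conjIrr χ = χ →
    ¬ p ∣ H12.degree (χ : (⊤ : Subgroup G) → ℂ))
include C hodd hreal

/-- The relation: related through a correspondent pair of fixed real constituents. -/
def Rel (p : ℕ) (P K : Subgroup G) (χ : IrrCharacter (⊤ : Subgroup G))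
    (ξ : IrrCharacter (Subgroup.normalizer (P : Set G) : Subgroup G)) : Prop :=
  ∃ (θ : IrrCharacter K) (ψ : IrrCharacter (K ⊓ Subgroup.normalizer (P : Set G) : Subgroup G)),
    Good p P θ ∧ Good p P ψ ∧
      ¬ p ∣ mlt (θ : K → ℂ) (ψ : ↥(K ⊓ Subgroup.normalizer (P : Set G)) → ℂ) ∧
      mlt (χ : (⊤ : Subgroup G) → ℂ) (θ : K → ℂ) ≠ 0 ∧
      mlt (ξ : ↥(Subgroup.normalizer (P : Set G)) → ℂ)
        (ψ : ↥(K ⊓ Subgroup.normalizer (P : Set G)) → ℂ) ≠ 0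

theorem exists_bijection :
    ∃ f : {χ : IrrCharacter (⊤ : Subgroup G) // H12.conjIrr χ = χ} →
      {ξ : IrrCharacter (Subgroup.normalizer (P : Set G) : Subgroup G) //
        H12.conjIrr ξ = ξ ∧ ¬ p ∣ H12.degree (ξ : ↥(Subgroup.normalizer (P : Set G)) → ℂ)},
      Function.Bijective f ∧ ∀ χ,
        (H12.degree ((f χ).1 : ↥(Subgroup.normalizer (P : Set G)) → ℂ) : ZMod p) =
            (H12.degree (χ.1 : (⊤ : Subgroup G) → ℂ) : ZMod p) ∨
        (H12.degree ((f χ).1 : ↥(Subgroup.normalizer (P : Set G)) → ℂ) : ZMod p) =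
            -(H12.degree (χ.1 : (⊤ : Subgroup G) → ℂ) : ZMod p) := by
  classical
  haveI := C.nK
  set N := Subgroup.normalizer (P : Set G) with hN
  have hKT : (⊤ : Subgroup G) ≤ Subgroup.normalizer (K : Set G) := fun g _ => nmem K g
  have hK'N : K ⊓ N ≤ N := inf_le_right
  have hNK' : N ≤ Subgroup.normalizer ((K ⊓ N : Subgroup G) : Set G) :=
    le_normalizer_inf (fun g _ => nmem K g) Subgroup.le_normalizer
  have ho1 : Odd (K.relIndex (⊤ : Subgroup G)) := by rwa [Subgroup.relIndex_top_right]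
  have ho2 : Odd ((K ⊓ N).relIndex N) := by
    rw [Subgroup.inf_relIndex_right]
    exact hodd.of_dvd_nat (Subgroup.relIndex_dvd_index_of_normal K N)
  have hPN : IsSyl p P N := C.syl.mono Subgroup.le_normalizer le_top
  -- the correspondent of a real fixed character is real
  have realc : ∀ (θ : IrrCharacter K) (ψ : IrrCharacter (K ⊓ N : Subgroup G)), Good p P θ →
      Good p P ψ → ¬ p ∣ mlt (θ : K → ℂ) (ψ : ↥(K ⊓ N) → ℂ) →
      (H12.conjIrr θ = θ ↔ H12.conjIrr ψ = ψ) := by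
    intro θ ψ hθ hψ hm
    have hm' : ¬ p ∣ mlt (H12.conjIrr θ : K → ℂ) (H12.conjIrr ψ : ↥(K ⊓ N) → ℂ) := by
      rwa [mlt_conj inf_le_left]
    constructor
    · intro h
      obtain ⟨ψ₀, -, -, -, hu⟩ := corr_exists C hθ
      rw [h] at hm'
      exact (hu _ (good_conj hψ) hm').trans (hu _ hψ hm).symm
    · intro h
      rw [h] at hm'
      exact corr_injective C (good_conj hθ) hθ hψ hm' hm
  -- stabilisers agree in the normalizer
  have stc : ∀ (θ : IrrCharacter K) (ψ : IrrCharacter (K ⊓ N : Subgroup G)), Good p P θ →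
      Good p P ψ → ¬ p ∣ mlt (θ : K → ℂ) (ψ : ↥(K ⊓ N) → ℂ) →
      ∀ n, n ∈ N → (n ∈ st (θ : K → ℂ) ↔ n ∈ st (ψ : ↥(K ⊓ N) → ℂ)) := by
    intro θ ψ hθ hψ hm n hn
    have hm' : ¬ p ∣ mlt (tw (nmem K n) θ : K → ℂ) (tw (hNK' hn) ψ : ↥(K ⊓ N) → ℂ) := by
      rwa [mlt_tw (hNK' hn) (nmem K n) inf_le_left]
    rw [← tw_eq_iff (nmem K n), ← tw_eq_iff (hNK' hn)]
    constructor
    · intro h
      obtain ⟨ψ₀, -, -, -, hu⟩ := corr_exists C hθ
      rw [h] at hm'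
      exact (hu _ (good_tw _ hn hψ) hm').trans (hu _ hψ hm).symm
    · intro h
      rw [h] at hm'
      exact corr_injective C (good_tw _ hn hθ) hθ hψ hm' hm
  -- left totality, with degrees
  have left : ∀ χ : IrrCharacter (⊤ : Subgroup G), H12.conjIrr χ = χ →
      ∃ ξ : IrrCharacter N, H12.conjIrr ξ = ξ ∧ ¬ p ∣ H12.degree (ξ : N → ℂ) ∧
        Rel p P K χ ξ ∧
        ((H12.degree (ξ : N → ℂ) : ZMod p) = (H12.degree (χ : (⊤ : Subgroup G) → ℂ) : ZMod p) ∨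
          (H12.degree (ξ : N → ℂ) : ZMod p) =
            -(H12.degree (χ : (⊤ : Subgroup G) → ℂ) : ZMod p)) := by
    intro χ hχ
    obtain ⟨θ₀, h0⟩ := exists_mlt_ne_zero (le_top : K ≤ ⊤) χ
    have hpd := hreal χ hχ
    rw [over_real_degree le_top hKT ho1 hχ h0] at hpd
    obtain ⟨x, hx, hgood⟩ := exists_good_conj C.syl le_top hKT hpd
    set θ := tw (hKT hx) θ₀
    have hne : mlt (χ : (⊤ : Subgroup G) → ℂ) (θ : K → ℂ) ≠ 0 := by
      rwa [mlt_tw_self le_top hx]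
    have hθr := real_of_mlt le_top hKT ho1 hχ hne
    obtain ⟨ψ, hψ, hm, hd, -⟩ := corr_exists C hgood
    have hψr := (realc θ ψ hgood hψ hm).1 hθr
    obtain ⟨ξ, hξ, hξne⟩ := exists_over_real hK'N hNK' ho2 hψr
    have e : (H12.degree (χ : (⊤ : Subgroup G) → ℂ) : ZMod p) =
        ((st (ψ : ↥(K ⊓ N) → ℂ)).relIndex N : ZMod p) * (H12.degree (θ : K → ℂ) : ZMod p) := by
      rw [over_real_degree le_top hKT ho1 hχ hne, Nat.cast_mul,
        idx_mod_rel C.syl (by rw [Subgroup.normalizer_eq_top]; exact le_top) hgood.1, top_inf_eq,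
        ← Subgroup.inf_relIndex_left N, ← Subgroup.inf_relIndex_left N (st (ψ : ↥(K ⊓ N) → ℂ))]
      congr 3
      ext n
      exact ⟨fun h => Subgroup.mem_inf.2 ⟨h.1, (stc θ ψ hgood hψ hm n h.1).1 h.2⟩,
        fun h => Subgroup.mem_inf.2 ⟨h.1, (stc θ ψ hgood hψ hm n h.1).2 h.2⟩⟩
    have e' : (H12.degree (ξ : N → ℂ) : ZMod p) =
        ((st (ψ : ↥(K ⊓ N) → ℂ)).relIndex N : ZMod p) *
          (H12.degree (ψ : ↥(K ⊓ N) → ℂ) : ZMod p) := by
      rw [over_real_degree hK'N hNK' ho2 hξ hξne, Nat.cast_mul]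
    have hrel : (H12.degree (ξ : N → ℂ) : ZMod p) = (H12.degree (χ : (⊤ : Subgroup G) → ℂ) : ZMod p) ∨
        (H12.degree (ξ : N → ℂ) : ZMod p) = -(H12.degree (χ : (⊤ : Subgroup G) → ℂ) : ZMod p) := by
      rw [e, e']
      rcases hd with h | h <;> rw [h]
      · exact Or.inl rfl
      · exact Or.inr (by rw [mul_neg, neg_neg])
    refine ⟨ξ, hξ, fun h => hreal χ hχ ((ZMod.natCast_eq_zero_iff _ _).1 ?_),
      ⟨θ, ψ, hgood, hψ, hm, hne, hξne⟩, hrel⟩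
    rw [← ZMod.natCast_eq_zero_iff] at h
    rcases hrel with r | r <;> rw [h] at r
    · exact r.symm
    · exact neg_eq_zero.1 r.symm
  choose f hf1 hf2 hf3 hf4 using left
  refine ⟨fun χ => ⟨f χ.1 χ.2, hf1 _ _, hf2 _ _⟩, ⟨fun a b hab => ?_, fun ξ => ?_⟩,
    fun χ => hf4 _ _⟩
  · -- injectivity
    obtain ⟨θ₁, ψ₁, hθ₁, hψ₁, m₁, n₁, k₁⟩ := hf3 a.1 a.2
    obtain ⟨θ₂, ψ₂, hθ₂, hψ₂, m₂, n₂, k₂⟩ := hf3 b.1 b.2
    have hab' : f a.1 a.2 = f b.1 b.2 := congrArg Subtype.val hab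
    rw [hab'] at k₁
    obtain ⟨n, hn, he⟩ := exists_conj hK'N hNK' _ k₁ k₂
    have hm : ¬ p ∣ mlt (tw (nmem K n) θ₁ : K → ℂ) (ψ₂ : ↥(K ⊓ N) → ℂ) := by
      rw [← he, mlt_tw (hNK' hn) (nmem K n) inf_le_left]
      exact m₁
    have e := corr_injective C (good_tw (nmem K n) hn hθ₁) hθ₂ hψ₂ hm m₂
    refine Subtype.ext (over_real_unique le_top hKT ho1 a.2 b.2 ?_ n₂)
    rw [← e, mlt_tw_self le_top (Subgroup.mem_top n)]
    exact n₁
  · -- surjectivity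
    obtain ⟨ψ₀, h0⟩ := exists_mlt_ne_zero hK'N ξ.1
    have hpd := ξ.2.2
    rw [over_real_degree hK'N hNK' ho2 ξ.2.1 h0] at hpd
    obtain ⟨x, hx, hgood⟩ := exists_good_conj hPN hK'N hNK' hpd
    set ψ := tw (hNK' hx) ψ₀
    have hne : mlt (ξ.1 : N → ℂ) (ψ : ↥(K ⊓ N) → ℂ) ≠ 0 := by
      rwa [mlt_tw_self hK'N hx]
    have hψr := real_of_mlt hK'N hNK' ho2 ξ.2.1 hne
    obtain ⟨θ, hθ, hm⟩ := corr_surjective C hgood
    obtain ⟨χ, hχ, hχne⟩ := exists_over_real le_top hKT ho1 ((realc θ ψ hθ hgood hm).2 hψr)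
    refine ⟨⟨χ, hχ⟩, Subtype.ext ?_⟩
    obtain ⟨θ₁, ψ₁, hθ₁, hψ₁, m₁, n₁, k₁⟩ := hf3 χ hχ
    obtain ⟨g, hg, he⟩ := exists_conj le_top hKT χ n₁ hχne
    obtain ⟨n, hn, he'⟩ := fusion C.syl (X := (⊤ : Subgroup G))
      (by rw [Subgroup.normalizer_eq_top]; exact le_top) hθ₁.1 hθ.1 hg he
    have hnN : n ∈ N := hn.2
    have hm' : ¬ p ∣ mlt (θ : K → ℂ) (tw (hNK' hnN) ψ₁ : ↥(K ⊓ N) → ℂ) := by
      rw [← he', mlt_tw (hNK' hnN) (nmem K n) inf_le_left]
      exact m₁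
    obtain ⟨ψ', -, -, -, hu⟩ := corr_exists C hθ
    have e : tw (hNK' hnN) ψ₁ = ψ :=
      (hu _ (good_tw _ hnN hψ₁) hm').trans (hu _ hgood hm).symm
    refine over_real_unique hK'N hNK' ho2 (hf1 χ hχ) ξ.2.1 ?_ hne
    rw [← e, mlt_tw_self hK'N hnN]
    exact k₁

end H87.RealP
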