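import Cfsg.Agent.H87.RealP.Real

/-!
# Real characters and Clifford pairs inside one group
-/

set_option autoImplicit false
set_option linter.unusedSectionVars false
set_option linter.unusedVariables false
set_option linter.style.haveILetI false

open Cfsg H87.McKay
open scoped ComplexConjugate

namespace H87.RealP

attribute [local instance high] Fintype.ofFinite

universe u

variable {G : Type u} [Group G] [Finite G] {A B D L T X : Subgroup G}

theorem cf_conjIrr (χ : IrrCharacter D) (g : G) :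
    cf (H12.conjIrr χ : D → ℂ) g = conj (cf (χ : D → ℂ) g) := by
  by_cases hg : g ∈ D
  · rw [cf_apply _ hg, cf_apply _ hg, H12.conjIrr_apply]
  · have h0 : ∀ f : D → ℂ, cf f g = 0 := fun f =>
      H14.extendByZero_of_not_mem D f hg
    rw [h0, h0, map_zero]

theorem mlt_conj (h : A ≤ D) (χ : IrrCharacter D) (θ : IrrCharacter A) :
    mlt (H12.conjIrr χ : D → ℂ) (H12.conjIrr θ : A → ℂ) = mlt (χ : D → ℂ) (θ : A → ℂ) := by
  have h1 : ip A (cf (H12.conjIrr χ : D → ℂ)) (cf (H12.conjIrr θ : A → ℂ)) =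
      conj (ip A (cf (χ : D → ℂ)) (cf (θ : A → ℂ))) := by
    simp only [ip, H12.classInner_def, cf_conjIrr, map_mul, map_inv₀, map_natCast, map_sum]
  refine mlt_natCast _ _ _ ?_
  rw [h1, mlt_spec h, map_natCast]

theorem tw_conj {x : G} (hx : x ∈ Subgroup.normalizer (A : Set G)) (θ : IrrCharacter A) :
    tw hx (H12.conjIrr θ) = H12.conjIrr (tw hx θ) :=
  irr_ext fun a ha => by
    rw [tw_apply hx _ ha, cf_conjIrr, cf_conjIrr, tw_apply hx _ ha]

theorem st_conj (θ : IrrCharacter A) :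
    st (H12.conjIrr θ : A → ℂ) = st (θ : A → ℂ) := by
  ext x
  refine and_congr_right fun _ => forall_congr' fun a => forall_congr' fun _ => ?_
  rw [cf_conjIrr, cf_conjIrr]
  exact ((starRingEnd ℂ).injective.eq_iff)

theorem degree_conj (θ : IrrCharacter A) :
    H12.degree (H12.conjIrr θ : A → ℂ) = H12.degree (θ : A → ℂ) := by
  have h := cast_degree (H12.conjIrr θ)
  rw [cf_conjIrr, ← cast_degree, map_natCast] at h
  exact_mod_cast h

theorem lift_conj (h : A ≤ D) (θ : IrrCharacter A) :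
    lift h (H12.conjIrr θ) = H12.conjIrr (lift h θ) :=
  Subtype.ext (funext fun n => by rw [H12.conjIrr_apply, lift_apply, lift_apply, cf_conjIrr])

section Odd

variable (hAD : A ≤ D) (hD : D ≤ Subgroup.normalizer (A : Set G)) (hodd : Odd (A.relIndex D))
include hAD hD hodd

theorem real_of_mlt {χ : IrrCharacter D} (hχ : H12.conjIrr χ = χ) {θ : IrrCharacter A}
    (hne : mlt (χ : D → ℂ) (θ : A → ℂ) ≠ 0) : H12.conjIrr θ = θ := by
  haveI := normal_of_le hD
  have h := real_constituent (A.subgroupOf D) hodd hχ (θ := lift hAD θ)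
    (by rw [classInner_lift]; exact_mod_cast hne)
  rw [← lift_conj] at h
  exact (H12.irrCongr (Subgroup.subgroupOfEquivOfLe hAD)).injective h

theorem exists_over_real {θ : IrrCharacter A} (hθ : H12.conjIrr θ = θ) :
    ∃ χ : IrrCharacter D, H12.conjIrr χ = χ ∧ mlt (χ : D → ℂ) (θ : A → ℂ) ≠ 0 := by
  haveI := normal_of_le hD
  obtain ⟨χ, h1, h2⟩ := exists_real_over (A.subgroupOf D) hodd (θ := lift hAD θ)
    (by rw [← lift_conj, hθ])
  rw [classInner_lift] at h2
  exact ⟨χ, h1, by exact_mod_cast h2⟩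

theorem over_real_unique {θ : IrrCharacter A} {χ χ' : IrrCharacter D} (hχ : H12.conjIrr χ = χ)
    (hχ' : H12.conjIrr χ' = χ') (h : mlt (χ : D → ℂ) (θ : A → ℂ) ≠ 0)
    (h' : mlt (χ' : D → ℂ) (θ : A → ℂ) ≠ 0) : χ = χ' := by
  haveI := normal_of_le hD
  exact real_unique (A.subgroupOf D) hodd (θ := lift hAD θ) hχ hχ'
    (by rw [classInner_lift]; exact_mod_cast h) (by rw [classInner_lift]; exact_mod_cast h')

theorem over_real_degree {θ : IrrCharacter A} {χ : IrrCharacter D} (hχ : H12.conjIrr χ = χ)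
    (h : mlt (χ : D → ℂ) (θ : A → ℂ) ≠ 0) :
    H12.degree (χ : D → ℂ) = (st (θ : A → ℂ)).relIndex D * H12.degree (θ : A → ℂ) := by
  haveI := normal_of_le hD
  have hne : classInner (fun n : A.subgroupOf D => (χ : D → ℂ) n)
      (lift hAD θ : A.subgroupOf D → ℂ) ≠ 0 := by
    rw [classInner_lift]; exact_mod_cast h
  have h1 := H13.clifford_degree (A.subgroupOf D) χ.2 (lift hAD θ).2 hne
  rw [real_mult_one (A.subgroupOf D) hodd hχ hne, one_mul,
    ← st_inf_eq_inertia hAD hD θ, ← Subgroup.relIndex, Subgroup.inf_relIndex_left, lift_apply,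
    H12.irr_apply_one] at h1
  rw [show (((1 : A.subgroupOf D) : D) : G) = 1 from rfl, ← cast_degree] at h1
  exact_mod_cast h1

end Odd

/-- A Clifford pair: the character induced from the stabiliser. -/
theorem clifford_pair (hLX : L ≤ X) (hX : X ≤ Subgroup.normalizer (L : Set G))
    (ν : IrrCharacter L) (hT : T = X ⊓ st (ν : L → ℂ)) (φ : IrrCharacter T)
    (hφ : mlt (φ : T → ℂ) (ν : L → ℂ) ≠ 0) :
    ∃ θ : IrrCharacter X, mlt (θ : X → ℂ) (φ : T → ℂ) = 1 ∧
      H12.degree (θ : X → ℂ) = T.relIndex X * H12.degree (φ : T → ℂ) ∧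
      (∀ θ' : IrrCharacter X, mlt (θ' : X → ℂ) (φ : T → ℂ) ≠ 0 → θ' = θ) ∧
      ∀ φ' : IrrCharacter T, mlt (φ' : T → ℂ) (ν : L → ℂ) ≠ 0 →
        mlt (θ : X → ℂ) (φ' : T → ℂ) ≠ 0 → φ' = φ := by
  haveI := normal_of_le hX
  have hTX : T ≤ X := hT ▸ inf_le_left
  have hLT : L ≤ T := hT ▸ le_inf hLX (le_st ν)
  have hi : T.subgroupOf X = H13.inertia (L.subgroupOf X) (lift hLX ν : L.subgroupOf X → ℂ) :=
    hT ▸ st_inf_eq_inertia hLX hX ν
  have h' : L.subgroupOf X ≤ T.subgroupOf X := fun y hy => hLT hy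
  let E := H12.irrCongr (Subgroup.subgroupOfEquivOfLe hTX)
  have hres : ∀ φ' : IrrCharacter T,
      classInner (H13.resTo h' (E φ' : T.subgroupOf X → ℂ)) (lift hLX ν : L.subgroupOf X → ℂ) =
        (mlt (φ' : T → ℂ) (ν : L → ℂ) : ℂ) := fun φ' => by
    rw [← mlt_spec hLT, ← classInner_lift_fun hLX]
    congr 1
    funext n
    exact (cf_apply (φ' : T → ℂ) (hLT n.2)).symm
  have hcor : ∀ φ' : IrrCharacter T, mlt (φ' : T → ℂ) (ν : L → ℂ) ≠ 0 →
      IsIrrCharacter X (indFun (T.subgroupOf X) (E φ' : T.subgroupOf X → ℂ)) := fun φ' h =>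
    (H13.clifford_correspondence (L.subgroupOf X) (lift hLX ν).2 hi h' (E φ').2
      (by rw [hres]; exact_mod_cast h)).1
  let θ : IrrCharacter X := ⟨_, hcor φ hφ⟩
  have hfrob : ∀ (θ' : IrrCharacter X) (φ' : IrrCharacter T),
      classInner (indFun (T.subgroupOf X) (E φ' : T.subgroupOf X → ℂ)) (θ' : X → ℂ) =
        (mlt (θ' : X → ℂ) (φ' : T → ℂ) : ℂ) := fun θ' φ' => by
    rw [H12.classInner_indFun _ _ (H12.irr_isClassFunction θ'), ← H12.conj_classInner,
      show (E φ' : T.subgroupOf X → ℂ) = (lift hTX φ' : T.subgroupOf X → ℂ) from rfl,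
      classInner_lift, map_natCast]
  have hone : ∀ (θ' : IrrCharacter X) (φ' : IrrCharacter T) (h : mlt (φ' : T → ℂ) (ν : L → ℂ) ≠ 0),
      mlt (θ' : X → ℂ) (φ' : T → ℂ) ≠ 0 → θ' = ⟨_, hcor φ' h⟩ := fun θ' φ' h hne => by
    by_contra hc
    have h0 := hfrob θ' φ'
    rw [H12.classInner_irr_ne (Ne.symm hc) ] at h0
    exact hne (by exact_mod_cast h0.symm)
  refine ⟨θ, ?_, ?_, fun θ' => hone θ' φ hφ, fun φ' h hne => ?_⟩
  · have h1 := hfrob θ φ
    rw [H12.classInner_irr_self θ] at h1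
    exact_mod_cast h1.symm
  · have h1 : (indFun (T.subgroupOf X) (E φ : T.subgroupOf X → ℂ)) 1 =
        ((T.relIndex X * H12.degree (φ : T → ℂ) : ℕ) : ℂ) := by
      rw [H12.indFun_one, Subgroup.relIndex, Nat.cast_mul, ← H12.irr_apply_one φ]
      congr 1
    show ⌊((indFun (T.subgroupOf X) (E φ : T.subgroupOf X → ℂ)) 1).re⌋₊ = _
    rw [h1, Complex.natCast_re, Nat.floor_natCast]
  · refine E.injective (Subtype.ext ?_)
    exact H13.clifford_correspondence_inj (L.subgroupOf X) (lift hLX ν).2 hi h' (E φ').2 (E φ).2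
      (by rw [hres]; exact_mod_cast h) (by rw [hres]; exact_mod_cast hφ)
      (congrArg Subtype.val (hone θ φ' h hne)).symm

end H87.RealP
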