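import Cfsg.Agent.H25.RealPApps
import Cfsg.Agent.H25.Indicator
import Cfsg.Agent.H87.McKay.Clifford

/-!
# Real characters over a normal subgroup of odd index

A real character of a normal subgroup of odd index lies under exactly one real character, with
multiplicity one, and all constituents of a real character are real.
-/

set_option autoImplicit false
set_option linter.unusedSectionVars false
set_option linter.unusedVariables false
set_option linter.style.haveILetI false

open Cfsg
open scoped ComplexConjugate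

namespace H87.RealP

attribute [local instance high] Fintype.ofFinite

universe u

section Normal

variable {G : Type u} [Group G] [Finite G]

theorem isReal_iff {χ : IrrCharacter G} :
    (∀ g, ((χ : G → ℂ) g).im = 0) ↔ H12.conjIrr χ = χ := by
  constructor
  · intro h
    exact Subtype.ext (funext fun g => by rw [H12.conjIrr_apply, Complex.conj_eq_iff_im.2 (h g)])
  · intro h g
    rw [← Complex.conj_eq_iff_im, ← H12.conjIrr_apply, h]

theorem fsInd_ne_zero (χ : IrrCharacter G) (h : H12.conjIrr χ = χ) :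
    H17.fsInd (χ : G → ℂ) ≠ 0 := by
  obtain ⟨n, ρ, hρ, hχρ⟩ := χ.2
  intro h0
  have htr : (fun g => (H17.rmat ρ g).trace) = (χ : G → ℂ) :=
    funext fun g => by rw [H17.trace_rmat, hχρ]
  have hd := H17.finrank_invForms_of_real ρ hρ (by rw [hχρ]; exact isReal_iff.2 h)
  obtain ⟨J, hJ, hJ0⟩ := Submodule.exists_mem_ne_zero_of_ne_bot
    (fun e => by rw [e, finrank_bot] at hd; exact zero_ne_one hd : H17.invForms (H17.rmat ρ) ≠ ⊥)
  have hT := H17.transpose_eq_fsInd_smul _ hd hJ
  rw [htr, h0, zero_smul, Matrix.transpose_eq_zero] at hT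
  exact hJ0 hT

variable (M : Subgroup G) [M.Normal] (hodd : Odd M.index)
include hodd

theorem mem_of_pow_mem {u : G} {k : ℕ} (h : u ^ 2 ^ k ∈ M) : u ∈ M := by
  rw [← QuotientGroup.eq_one_iff, ← orderOf_eq_one_iff]
  have h1 : orderOf (u : G ⧸ M) ∣ 2 ^ k := orderOf_dvd_of_pow_eq_one (by
    rw [← QuotientGroup.mk_pow, QuotientGroup.eq_one_iff]; exact h)
  have h2 : orderOf (u : G ⧸ M) ∣ M.index := by
    rw [Subgroup.index_eq_card]; exact orderOf_dvd_natCard _
  exact Nat.eq_one_of_dvd_coprimes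
    ((Nat.coprime_two_left.2 hodd).pow_left k) h1 h2

/-- The indicators over a character of a normal subgroup of odd index. -/
theorem sum_fsInd_mlt (θ : IrrCharacter M) :
    ∑ χ : IrrCharacter G, conj (H17.fsInd (χ : G → ℂ)) *
      classInner (fun m : M => (χ : G → ℂ) m) (θ : M → ℂ) = conj (H17.fsInd (θ : M → ℂ)) := by
  classical
  let r : G → ℂ := fun g => (Nat.card {u : G // u * u = g} : ℂ)
  let rM : M → ℂ := fun m => (Nat.card {u : M // u * u = m} : ℂ)
  have hr : ∀ {X : Type u} [Group X] [Fintype X] (φ : X → ℂ),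
      classInner (fun x => (Nat.card {u : X // u * u = x} : ℂ)) φ = conj (H17.fsInd φ) := by
    intro X _ _ φ
    rw [H12.classInner_def, H17.fsInd, map_mul, map_inv₀, map_natCast, map_sum]
    congr 1
    conv_rhs => rw [← Finset.sum_fiberwise (Finset.univ : Finset X) (fun u => u * u)]
    refine Finset.sum_congr rfl fun x _ => ?_
    rw [Finset.sum_congr rfl (g := fun _ => conj (φ x)) fun u hu => by rw [(Finset.mem_filter.1 hu).2],
      Finset.sum_const, nsmul_eq_mul, Nat.card_eq_fintype_card, Fintype.card_subtype]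
  have hrc : IsClassFunction G r := by
    intro a c
    show (Nat.card {u : G // u * u = c * a * c⁻¹} : ℂ) = Nat.card {u : G // u * u = a}
    congr 1
    refine Nat.card_congr (Equiv.subtypeEquiv (MulAut.conj c⁻¹).toEquiv fun u => ?_)
    show u * u = c * a * c⁻¹ ↔ MulAut.conj c⁻¹ u * MulAut.conj c⁻¹ u = a
    rw [← map_mul, MulAut.conj_apply]
    constructor
    · intro e; rw [e]; group
    · intro e; rw [← e]; group
  have hres : (fun m : M => r m) = rM := by
    funext m
    refine congrArg Nat.cast (Nat.card_congr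
      { toFun := fun u => ⟨⟨u.1, mem_of_pow_mem M hodd (k := 1) (by
          rw [pow_one, pow_two, u.2]; exact m.2)⟩, Subtype.ext u.2⟩
        invFun := fun u => ⟨u.1, congrArg Subtype.val u.2⟩
        left_inv := fun u => rfl
        right_inv := fun u => rfl })
  have hdec := H12.classFunction_eq_sum hrc
  have h1 : ∑ χ : IrrCharacter G, classInner r (χ : G → ℂ) *
      classInner (fun m : M => (χ : G → ℂ) m) (θ : M → ℂ) = classInner rM (θ : M → ℂ) := by
    rw [← hres]
    conv_rhs => rw [hdec]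
    simp only [H12.classInner_def, Finset.sum_apply, Pi.smul_apply, smul_eq_mul, Finset.sum_mul,
      Finset.mul_sum]
    rw [Finset.sum_comm]
    refine Finset.sum_congr rfl fun m _ => Finset.sum_congr rfl fun χ _ => ?_
    refine Finset.sum_congr rfl fun x _ => ?_
    ring
  rw [hr] at h1
  simpa only [r, hr] using h1

theorem conj_classInner_res {χ : IrrCharacter G} {θ : IrrCharacter M} (hχ : H12.conjIrr χ = χ) :
    classInner (fun m : M => (χ : G → ℂ) m) (H12.conjIrr θ : M → ℂ) =
      conj (classInner (fun m : M => (χ : G → ℂ) m) (θ : M → ℂ)) := by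
  rw [H12.classInner_def, H12.classInner_def, map_mul, map_inv₀, map_natCast, map_sum]
  congr 1
  refine Finset.sum_congr rfl fun m _ => ?_
  rw [H12.conjIrr_apply, map_mul, ← H12.conjIrr_apply χ, hχ]

theorem exists_real_over {θ : IrrCharacter M} (hθ : H12.conjIrr θ = θ) :
    ∃ χ : IrrCharacter G, H12.conjIrr χ = χ ∧
      classInner (fun m : M => (χ : G → ℂ) m) (θ : M → ℂ) ≠ 0 := by
  by_contra hno
  push Not at hno
  have h := sum_fsInd_mlt M hodd θ
  rw [Finset.sum_eq_zero] at h
  · exact fsInd_ne_zero θ hθ ((map_eq_zero _).1 h.symm)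
  intro χ _
  by_cases h0 : H17.fsInd (χ : G → ℂ) = 0
  · rw [h0, map_zero, zero_mul]
  · rw [hno χ (isReal_iff.1 (H25.real_of_fsInd_ne_zero χ h0)), mul_zero]

open scoped H25.RealP in
/-- All constituents of a real character are real. -/
theorem real_constituent {χ : IrrCharacter G} (hχ : H12.conjIrr χ = χ) {θ : IrrCharacter M}
    (hne : classInner (fun m : M => (χ : G → ℂ) m) (θ : M → ℂ) ≠ 0) : H12.conjIrr θ = θ := by
  by_contra hc
  have hex : ∃ x, H13.twist M x (θ : M → ℂ) = (H12.conjIrr θ : M → ℂ) := by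
    by_contra h
    push Not at h
    have h0 := H13.classInner_res_eq_zero_of_not_conj M χ.2 θ.2 (H12.conjIrr θ).2 hne h
    rw [conj_classInner_res M hodd hχ, map_eq_zero] at h0
    exact hne h0
  obtain ⟨x, hx⟩ := hex
  have hg : x⁻¹ • θ = H12.conjIrr θ := by
    refine Subtype.ext (funext fun k => ?_)
    rw [H25.RealP.irr_smul_apply, inv_inv, ← congrFun hx k, H13.twist_apply]
    rfl
  have h2 : (x⁻¹ ^ 2) • θ = θ := by
    rw [pow_two, mul_smul, hg, ← H25.RealP.conjIrr_smul, hg, H12.conjIrr_conjIrr]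
  obtain ⟨j, hj⟩ := hodd
  have h3 := H25.RealP.pow_index_smul_irr M x⁻¹ θ
  have h4 : ∀ i : ℕ, (x⁻¹ ^ 2) ^ i • θ = θ := fun i => by
    induction i with
    | zero => rw [pow_zero, one_smul]
    | succ i ih => rw [pow_succ, mul_smul, h2, ih]
  rw [hj, pow_succ', pow_mul, mul_smul, h4, hg] at h3
  exact hc h3

theorem twist_constituent {χ : IrrCharacter G} {θ : IrrCharacter M} (g : G) :
    classInner (fun m : M => (χ : G → ℂ) m)
      (fun m : M => (θ : M → ℂ) (MulAut.conjNormal (H := M) g m)) =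
      classInner (fun m : M => (χ : G → ℂ) m) (θ : M → ℂ) := by
  rw [H12.classInner_def, H12.classInner_def]
  congr 1
  refine Fintype.sum_equiv (MulAut.conjNormal (H := M) g).toEquiv _ _ fun m => ?_
  show _ = (χ : G → ℂ) (MulAut.conjNormal (H := M) g m : M) * _
  rw [MulAut.conjNormal_apply, H12.irr_isClassFunction χ]
  rfl

open scoped H25.RealP in
/-- A real character lies under at most one real character. -/
theorem real_unique {θ : IrrCharacter M} {χ χ' : IrrCharacter G} (hχ : H12.conjIrr χ = χ)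
    (hχ' : H12.conjIrr χ' = χ') (h : classInner (fun m : M => (χ : G → ℂ) m) (θ : M → ℂ) ≠ 0)
    (h' : classInner (fun m : M => (χ' : G → ℂ) m) (θ : M → ℂ) ≠ 0) : χ = χ' := by
  classical
  obtain ⟨q, hq, hqp⟩ := Nat.exists_infinite_primes (Nat.card M + 1)
  haveI : Fact q.Prime := ⟨hqp⟩
  have hK : ¬ q ∣ Nat.card M := fun hd => by have := Nat.le_of_dvd Nat.card_pos hd; omega
  have hT : (⊤ : Subgroup G) ≤ Subgroup.normalizer ((⊥ : Subgroup G) : Set G) := by
    rw [Subgroup.normalizer_eq_top]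
  have hcard := H25.RealP.card_realQuot_eq M hodd hK (⊥ : Subgroup G) ⊤
    (IsPGroup.of_bot (p := q) (G := G)) hT
  let RI := H25.RealP.RealQuot (α := IrrCharacter M) (⊥ : Subgroup G) ⊤ H12.conjIrr
  let RC := H25.RealP.RealQuot (α := ConjClasses M) (⊥ : Subgroup G) ⊤ (H25.RealP.invClass M)
  haveI : Finite RI := Finite.of_surjective _ Quot.mk_surjective
  haveI : Finite RC := Finite.of_surjective _ Quot.mk_surjective
  have hbot : ∀ {α : Type u} [MulAction G α] (a : α),
      a ∈ MulAction.fixedPoints (⊥ : Subgroup G) α :=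
    fun a u => by rw [Subgroup.smul_def, Subgroup.mem_bot.mp u.2, one_smul]
  have hcon : ∀ ξ : {ξ : IrrCharacter G // ∀ g, ((ξ : G → ℂ) g).im = 0}, ∃ φ : IrrCharacter M,
      H12.conjIrr φ = φ ∧ classInner (fun m : M => (ξ.1 : G → ℂ) m) (φ : M → ℂ) ≠ 0 := by
    intro ξ
    have hc := H12.IsCharacter.res (H12.isCharacter_irr ξ.1) M
    by_contra hno
    have h1 := congrFun (H12.classFunction_eq_sum (H12.IsCharacter.isClassFunction hc)) 1
    rw [Finset.sum_apply, Finset.sum_eq_zero] at h1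
    · exact H12.irr_apply_one_ne_zero ξ.1 h1
    intro φ _
    by_cases h0 : classInner (fun m : M => (ξ.1 : G → ℂ) m) (φ : M → ℂ) = 0
    · rw [Pi.smul_apply, h0, zero_smul]
    · exact absurd ⟨φ, real_constituent M hodd (isReal_iff.1 ξ.2) h0, h0⟩ hno
  choose φ hφr hφ using hcon
  let pt : ∀ φ : IrrCharacter M, H12.conjIrr φ = φ → RI := fun φ hr => Quot.mk _ ⟨⟨φ, hbot φ⟩, hr⟩
  have horb : ∀ (ξ : {ξ : IrrCharacter G // ∀ g, ((ξ : G → ℂ) g).im = 0}) (ψ : IrrCharacter M)
      (hr : H12.conjIrr ψ = ψ), classInner (fun m : M => (ξ.1 : G → ℂ) m) (ψ : M → ℂ) ≠ 0 →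
      pt (φ ξ) (hφr ξ) = pt ψ hr := by
    intro ξ ψ hr hne
    have hex : ∃ x, H13.twist M x (φ ξ : M → ℂ) = (ψ : M → ℂ) := by
      by_contra hno
      push Not at hno
      exact hne (H13.classInner_res_eq_zero_of_not_conj M ξ.1.2 (φ ξ).2 ψ.2 (hφ ξ) hno)
    obtain ⟨x, hx⟩ := hex
    refine Quot.sound ⟨⟨x⁻¹, Subgroup.mem_top _⟩, Subtype.ext (funext fun k => ?_)⟩
    show ((x⁻¹ : G) • φ ξ : IrrCharacter M).1 k = (ψ : M → ℂ) k
    rw [H25.RealP.irr_smul_apply, inv_inv, ← congrFun hx k, H13.twist_apply]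
    rfl
  let Φ : {ξ : IrrCharacter G // ∀ g, ((ξ : G → ℂ) g).im = 0} → RI := fun ξ => pt (φ ξ) (hφr ξ)
  have hsurj : Function.Surjective Φ := by
    rintro ⟨⟨ψ, hr⟩⟩
    obtain ⟨ξ, hξ, hne⟩ := exists_real_over M hodd hr
    exact ⟨⟨ξ, isReal_iff.2 hξ⟩, horb _ _ hr hne⟩
  let back : RC → {C : ConjClasses G // ∀ g, ConjClasses.mk g = C → IsConj g g⁻¹} := Quot.lift
    (fun C => ⟨ConjClasses.map M.subtype C.1.1, fun g hg => by
      obtain ⟨k, hk⟩ := ConjClasses.mk_surjective C.1.1
      have hC : H25.RealP.invClass M C.1.1 = C.1.1 := C.2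
      rw [← hk, H25.RealP.invClass_mk] at hC
      have h1 : IsConj (k : G) ((k : G))⁻¹ :=
        M.subtype.map_isConj (ConjClasses.mk_eq_mk_iff_isConj.1 hC).symm
      rw [← hk] at hg
      have h2 : IsConj g (k : G) := ConjClasses.mk_eq_mk_iff_isConj.1 hg
      exact (h2.trans h1).trans (H19.isConj_inv_iff.mpr h2.symm)⟩)
    (fun C C' ⟨n, e⟩ => Subtype.ext (by
      show ConjClasses.map M.subtype C.1.1 = ConjClasses.map M.subtype C'.1.1
      rw [← e]
      obtain ⟨k, hk⟩ := ConjClasses.mk_surjective C.1.1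
      rw [← hk, H25.RealP.class_smul_mk]
      show ConjClasses.mk (k : G) = ConjClasses.mk ((MulAut.conjNormal (H := M) (n : G) k : M) : G)
      rw [MulAut.conjNormal_apply, ConjClasses.mk_eq_mk_iff_isConj]
      exact isConj_iff.2 ⟨n, rfl⟩))
  have hback : Function.Injective back := by
    rintro ⟨C⟩ ⟨C'⟩ e
    obtain ⟨k, hk⟩ := ConjClasses.mk_surjective C.1.1
    obtain ⟨k', hk'⟩ := ConjClasses.mk_surjective C'.1.1
    have e1 : ConjClasses.map M.subtype C.1.1 = ConjClasses.map M.subtype C'.1.1 :=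
      congrArg Subtype.val e
    rw [← hk, ← hk'] at e1
    obtain ⟨g, hg⟩ := isConj_iff.1 (ConjClasses.mk_eq_mk_iff_isConj.1 e1)
    refine Quot.sound ⟨⟨g, Subgroup.mem_top _⟩, ?_⟩
    show g • C.1.1 = C'.1.1
    rw [← hk, ← hk', H25.RealP.class_smul_mk]
    exact congrArg _ (Subtype.ext ((MulAut.conjNormal_apply g k).trans hg))
  have hbs : Function.Surjective back := by
    rintro ⟨C, hC⟩
    obtain ⟨g, rfl⟩ := ConjClasses.mk_surjective C
    obtain ⟨x, hx⟩ := isConj_iff.1 (hC g rfl)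
    obtain ⟨t, k, htk, ht⟩ := H25.RealP.exists_two_inverter hx
    have htM : t ∈ M := mem_of_pow_mem M hodd (k := k) (by rw [← htk, pow_orderOf_eq_one]; exact M.one_mem)
    have hgM : g ∈ M := by
      refine mem_of_pow_mem M hodd (k := 1) ?_
      rw [← QuotientGroup.eq_one_iff]
      have := congrArg (QuotientGroup.mk : G → G ⧸ M) ht
      rw [QuotientGroup.mk_mul, QuotientGroup.mk_mul, (QuotientGroup.eq_one_iff t).2 htM,
        QuotientGroup.mk_inv, QuotientGroup.mk_inv, (QuotientGroup.eq_one_iff t).2 htM] at this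
      simp only [one_mul, inv_one, mul_one] at this
      rw [pow_one, QuotientGroup.mk_pow, pow_two]
      nth_rewrite 1 [this]
      rw [inv_mul_cancel]
    refine ⟨Quot.mk _ ⟨⟨ConjClasses.mk ⟨g, hgM⟩, hbot _⟩, ?_⟩, Subtype.ext rfl⟩
    show H25.RealP.invClass M (ConjClasses.mk ⟨g, hgM⟩) = ConjClasses.mk ⟨g, hgM⟩
    rw [H25.RealP.invClass_mk, ConjClasses.mk_eq_mk_iff_isConj]
    exact (isConj_iff.2 ⟨⟨t, htM⟩, Subtype.ext ht⟩ : IsConj (⟨g, hgM⟩ : M) _).symm
  have hRC := Nat.card_eq_of_bijective back ⟨hback, hbs⟩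
  have hinj : Function.Injective Φ :=
    ((Nat.bijective_iff_surjective_and_card Φ).2 ⟨hsurj, by
      rw [H25.RealP.card_real_irr, ← hRC]; exact hcard.symm⟩).1
  have hθr := real_constituent M hodd hχ h
  have e : Φ ⟨χ, isReal_iff.2 hχ⟩ = Φ ⟨χ', isReal_iff.2 hχ'⟩ :=
    (horb ⟨χ, isReal_iff.2 hχ⟩ θ hθr h).trans (horb ⟨χ', isReal_iff.2 hχ'⟩ θ hθr h').symm
  exact congrArg Subtype.val (hinj e)

/-- The multiplicity is one. -/
theorem real_mult_one {θ : IrrCharacter M} {χ : IrrCharacter G} (hχ : H12.conjIrr χ = χ)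
    (h : classInner (fun m : M => (χ : G → ℂ) m) (θ : M → ℂ) ≠ 0) :
    classInner (fun m : M => (χ : G → ℂ) m) (θ : M → ℂ) = 1 := by
  classical
  have hs := sum_fsInd_mlt M hodd θ
  rw [Finset.sum_eq_single χ] at hs
  · obtain ⟨m, hm⟩ := H12.IsCharacter.classInner_nat
      (H12.IsCharacter.res (H12.isCharacter_irr χ) M) (H12.isCharacter_irr θ)
    rw [hm] at hs ⊢
    rcases H25.fsInd_irr_cases θ with h0 | ⟨h1, -⟩
    · exact absurd h0 (fsInd_ne_zero θ (real_constituent M hodd hχ h))
    rcases H25.fsInd_irr_cases χ with h0 | ⟨h2, -⟩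
    · exact absurd h0 (fsInd_ne_zero χ hχ)
    rcases h1 with h1 | h1 <;> rcases h2 with h2 | h2 <;> rw [h1, h2] at hs <;>
      simp only [map_one, map_neg, one_mul, neg_mul] at hs
    · exact hs
    · have : ((m : ℂ)) + 1 = 0 := by linear_combination -hs
      exact absurd this (by exact_mod_cast Nat.succ_ne_zero m)
    · have : ((m : ℂ)) + 1 = 0 := by linear_combination hs
      exact absurd this (by exact_mod_cast Nat.succ_ne_zero m)
    · exact neg_inj.1 hs
  · intro ξ _ hne
    by_cases h0 : H17.fsInd (ξ : G → ℂ) = 0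
    · rw [h0, map_zero, zero_mul]
    · by_contra hp
      exact hne (real_unique M hodd (isReal_iff.1 (H25.real_of_fsInd_ne_zero ξ h0)) hχ
        (right_ne_zero_of_mul hp) h)
  · simp

end Normal

end H87.RealP
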