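import Cfsg.Agent.H87.RealP.Index
import Cfsg.Agent.H87.McKay.Glau
import Cfsg.Agent.H87.McKay.CoreMain
import Cfsg.Agent.H1.SchurZassenhausConj

/-!
# The correspondence inside the stabiliser of a linear character
-/

set_option autoImplicit false
set_option linter.unusedSectionVars false
set_option linter.unusedVariables false
set_option linter.style.haveILetI false

open Cfsg H87.McKay
open scoped ComplexConjugate Pointwise

namespace H87.RealP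

attribute [local instance high] Fintype.ofFinite

universe u

variable {G : Type u} [Group G] [Finite G] {p : ℕ} [hp : Fact p.Prime] {P Q K T H S : Subgroup G}

/-- `Q` is a normal `p`-subgroup of index prime to `p` in the normal subgroup `K`. -/
structure Ctx (p : ℕ) (P Q K : Subgroup G) : Prop where
  syl : IsSyl p P (⊤ : Subgroup G)
  nK : K.Normal
  nQ : Q.Normal
  hQK : Q ≤ K
  hQP : Q ≤ P
  idx : ¬ p ∣ Q.relIndex K

namespace Ctx

variable (C : Ctx p P Q K)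
include C

theorem hQ : IsPGroup p Q := C.syl.pgroup.to_le C.hQP
theorem PK : P ≤ Subgroup.normalizer (K : Set G) := fun g _ => haveI := C.nK; nmem K g
theorem hQK' : Q ≤ K ⊓ Subgroup.normalizer (P : Set G) :=
  le_inf C.hQK (C.hQP.trans Subgroup.le_normalizer)
theorem PK' : P ≤ Subgroup.normalizer
    ((K ⊓ Subgroup.normalizer (P : Set G) : Subgroup G) : Set G) :=
  le_normalizer_inf C.PK (Subgroup.le_normalizer.trans Subgroup.le_normalizer)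
theorem XQ (X : Subgroup G) : X ≤ Subgroup.normalizer (Q : Set G) := fun g _ =>
  haveI := C.nQ; nmem Q g

end Ctx

theorem normalizes_st (lam : IrrCharacter Q) (hP : P ≤ st (lam : Q → ℂ)) :
    P ≤ Subgroup.normalizer ((st (lam : Q → ℂ) : Subgroup G) : Set G) :=
  hP.trans Subgroup.le_normalizer

/-- Complements for the two levels. -/
theorem exists_packs (C : Ctx p P Q K) (lam : IrrCharacter Q)
    (hlin : H12.degree (lam : Q → ℂ) = 1) (hlam : P ≤ st (lam : Q → ℂ))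
    (hT : T = K ⊓ st (lam : Q → ℂ)) :
    ∃ H C' S : Subgroup G, Pack Q T H lam ∧
      Pack Q (K ⊓ Subgroup.normalizer (P : Set G) ⊓ st (lam : Q → ℂ)) C' lam ∧
      IsPGroup p S ∧ ¬ p ∣ Nat.card H ∧ S ≤ Subgroup.normalizer (H : Set G) ∧
      C' = H ⊓ Subgroup.centralizer (S : Set G) ∧ S ≤ P ∧ ∀ u ∈ P, ∃ q ∈ Q, ∃ s ∈ S, q * s = u := by
  set N := Subgroup.normalizer (P : Set G) with hN
  have hQT : Q ≤ T := hT ▸ le_inf C.hQK (le_st lam)
  have hTK : T ≤ K := hT ▸ inf_le_left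
  have hPT : P ≤ Subgroup.normalizer (T : Set G) :=
    hT ▸ le_normalizer_inf C.PK (normalizes_st lam hlam)
  have hi : ¬ p ∣ Q.relIndex T := fun h => C.idx
    (h.trans ⟨_, (Subgroup.relIndex_mul_relIndex Q T K hQT hTK).symm⟩)
  obtain ⟨H, hHT, hH, hd, hcov⟩ := exists_complement hQT (C.XQ T) C.hQ hi
  let S : Subgroup G := P ⊓ Subgroup.normalizer (H : Set G)
  have hcop : (Nat.card Q).Coprime (Nat.card H) := by
    obtain ⟨n, hn⟩ := IsPGroup.iff_card.1 C.hQ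
    rw [hn]
    exact (hp.out.coprime_iff_not_dvd.2 hH).pow_left n
  have hdec : ∀ u ∈ P, ∃ q ∈ Q, ∃ s ∈ S, q * s = u := by
    intro u hu
    haveI : Group.IsNilpotent Q := C.hQ.isNilpotent
    have hle : H.map (MulAut.conj u).toMonoidHom ≤ Q ⊔ H := by
      rintro _ ⟨h, hh, rfl⟩
      obtain ⟨q, hq, w, hw, e⟩ := hcov _ (conj_mem' hPT hu (hHT hh))
      show u * h * u⁻¹ ∈ Q ⊔ H
      rw [← e]
      exact mul_mem (Subgroup.mem_sup_left hq) (Subgroup.mem_sup_right hw)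
    obtain ⟨d, hd', he⟩ := H1.exists_conj_eq_of_coprime (C.XQ H) hcop (Or.inl inferInstance) hle
      (Subgroup.card_map_of_injective (MulAut.conj u).injective)
    refine ⟨d, hd', d⁻¹ * u, Subgroup.mem_inf.2 ⟨P.mul_mem (P.inv_mem (C.hQP hd')) hu,
      Subgroup.mem_normalizer_fintype fun h hh => ?_⟩, by group⟩
    have h1 : u * h * u⁻¹ ∈ H.map (MulAut.conj u).toMonoidHom := ⟨h, hh, rfl⟩
    rw [← he, Subgroup.mem_pointwise_smul_iff_inv_smul_mem, ← map_inv, MulAut.smul_def,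
      MulAut.conj_apply] at h1
    rw [show d⁻¹ * u * h * (d⁻¹ * u)⁻¹ = d⁻¹ * (u * h * u⁻¹) * d⁻¹⁻¹ by group]
    exact h1
  refine ⟨H, H ⊓ Subgroup.centralizer (S : Set G), S, ⟨hQT, hHT, hcov, hd, hT ▸ inf_le_right, hlin⟩,
    ⟨le_inf C.hQK' (le_st lam), ?_, ?_, ?_, inf_le_right, hlin⟩,
    C.syl.pgroup.to_le inf_le_left, hH, inf_le_right, rfl, inf_le_left, hdec⟩
  · intro c hc
    have hcT : c ∈ K ⊓ st (lam : Q → ℂ) := hT ▸ hHT hc.1
    refine Subgroup.mem_inf.2 ⟨Subgroup.mem_inf.2 ⟨hcT.1, Subgroup.mem_normalizer_fintype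
      fun u hu => ?_⟩, hcT.2⟩
    obtain ⟨q, hq, s, hs, rfl⟩ := hdec u hu
    rw [show c * (q * s) * c⁻¹ = (c * q * c⁻¹) * (c * s * c⁻¹) by group,
      ← Subgroup.mem_centralizer_iff.1 hc.2 s hs, mul_inv_cancel_right]
    exact P.mul_mem (C.hQP (conj_mem' (C.XQ H) hc.1 hq)) hs.1
  · intro t ht
    obtain ⟨q, hq, h, hh, rfl⟩ := hcov t (hT ▸ Subgroup.mem_inf.2 ⟨ht.1.1, ht.2⟩)
    have hhN : h ∈ N := (N.mul_mem_cancel_left (Subgroup.le_normalizer (C.hQP hq))).1 ht.1.2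
    refine ⟨q, hq, h, Subgroup.mem_inf.2 ⟨hh, Subgroup.mem_centralizer_iff.2 fun s hs => ?_⟩, rfl⟩
    have h1 : h * s * h⁻¹ * s⁻¹ ∈ H ⊓ P := by
      refine Subgroup.mem_inf.2 ⟨?_, P.mul_mem ((Subgroup.mem_normalizer_iff.1 hhN s).1 hs.1)
        (P.inv_mem hs.1)⟩
      rw [show h * s * h⁻¹ * s⁻¹ = h * (s * h⁻¹ * s⁻¹) by group]
      exact H.mul_mem hh ((Subgroup.mem_normalizer_iff.1 hs.2 _).1 (H.inv_mem hh))
    rw [inf_eq_bot_of_coprime C.syl.pgroup hH, Subgroup.mem_bot] at h1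
    have h2 := congrArg (· * (s * h)) h1
    simp only [one_mul] at h2
    rw [← h2]
    group
  · exact eq_bot_iff.2 ((inf_le_inf_left Q inf_le_left).trans hd.le)

/-- Invariance through a complement. -/
theorem Pack.st_iff {lam : IrrCharacter Q} (W : Pack Q T H lam) (hlam : P ≤ st (lam : Q → ℂ))
    (hPT : P ≤ Subgroup.normalizer (T : Set G)) (hSH : S ≤ Subgroup.normalizer (H : Set G))
    (hSP : S ≤ P) (hdec : ∀ u ∈ P, ∃ q ∈ Q, ∃ s ∈ S, q * s = u)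
    {φ : IrrCharacter T} (hφ : mlt (φ : T → ℂ) (lam : Q → ℂ) ≠ 0) {β : IrrCharacter H}
    (he : Extends (φ : T → ℂ) (β : H → ℂ)) :
    P ≤ st (φ : T → ℂ) ↔ S ≤ st (β : H → ℂ) := by
  constructor
  · intro h s hs
    refine ⟨hSH hs, fun a ha => ?_⟩
    rw [← he a ha, ← he _ (conj_mem' hSH hs ha)]
    exact (h (hSP hs)).2 a (W.hHT ha)
  · intro h u hu
    obtain ⟨q, hq, s, hs, rfl⟩ := hdec u hu
    refine mul_mem (le_st φ (W.hQT hq)) ((tw_eq_iff (hPT (hSP hs)) φ).1 ?_)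
    refine W.res_inj ?_ hφ (fun a ha => ?_) he
    · have h1 := mlt_tw (hlam (hSP hs)).1 (hPT (hSP hs)) W.hQT φ lam
      rw [(tw_eq_iff _ lam).2 (hlam (hSP hs))] at h1
      rwa [h1]
    · rw [tw_apply _ _ (W.hHT ha), he _ (conj_mem' hSH hs ha)]
      exact (h hs).2 a ha

theorem Pack.mlt_eq {T' C' : Subgroup G} {lam : IrrCharacter Q} (W : Pack Q T H lam)
    (W' : Pack Q T' C' lam) (hT : T' ≤ T) (hC : C' ≤ H)
    {φ : IrrCharacter T} (hφ : mlt (φ : T → ℂ) (lam : Q → ℂ) ≠ 0) {β : IrrCharacter H}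
    (he : Extends (φ : T → ℂ) (β : H → ℂ))
    {φ' : IrrCharacter T'} (hφ' : mlt (φ' : T' → ℂ) (lam : Q → ℂ) ≠ 0) {γ : IrrCharacter C'}
    (he' : Extends (φ' : T' → ℂ) (γ : C' → ℂ)) :
    mlt (φ : T → ℂ) (φ' : T' → ℂ) = mlt (β : H → ℂ) (γ : C' → ℂ) := by
  refine mlt_natCast _ _ _ ?_
  rw [W'.ip_cover (fun q hq h hh => W.scalar hφ hq (W.hHT (hC hh)))
    (fun q hq h hh => W'.scalar hφ' hq (W'.hHT hh)), ip_congr (fun d hd => he d (hC hd)) he',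
    mlt_spec hC]

/-- The correspondence over a linear character fixed by `P`. -/
theorem stab_corr (C : Ctx p P Q K) (lam : IrrCharacter Q)
    (hlin : H12.degree (lam : Q → ℂ) = 1) (hlam : P ≤ st (lam : Q → ℂ))
    {T T' : Subgroup G} (hT : T = K ⊓ st (lam : Q → ℂ))
    (hT' : T' = K ⊓ Subgroup.normalizer (P : Set G) ⊓ st (lam : Q → ℂ)) :
    (∀ φ : IrrCharacter T, mlt (φ : T → ℂ) (lam : Q → ℂ) ≠ 0 → P ≤ st (φ : T → ℂ) →
      ∃ φ' : IrrCharacter T', mlt (φ' : T' → ℂ) (lam : Q → ℂ) ≠ 0 ∧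
        P ≤ st (φ' : T' → ℂ) ∧ ¬ p ∣ mlt (φ : T → ℂ) (φ' : T' → ℂ) ∧
        ((H12.degree (φ : T → ℂ) : ZMod p) = (H12.degree (φ' : T' → ℂ) : ZMod p) ∨
          (H12.degree (φ : T → ℂ) : ZMod p) = -(H12.degree (φ' : T' → ℂ) : ZMod p)) ∧
        ∀ φ'' : IrrCharacter T', mlt (φ'' : T' → ℂ) (lam : Q → ℂ) ≠ 0 →
          ¬ p ∣ mlt (φ : T → ℂ) (φ'' : T' → ℂ) → φ'' = φ') ∧
    (∀ φ₁ φ₂ : IrrCharacter T, mlt (φ₁ : T → ℂ) (lam : Q → ℂ) ≠ 0 →
      mlt (φ₂ : T → ℂ) (lam : Q → ℂ) ≠ 0 → P ≤ st (φ₁ : T → ℂ) → P ≤ st (φ₂ : T → ℂ) →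
      ∀ φ' : IrrCharacter T', mlt (φ' : T' → ℂ) (lam : Q → ℂ) ≠ 0 →
        ¬ p ∣ mlt (φ₁ : T → ℂ) (φ' : T' → ℂ) → ¬ p ∣ mlt (φ₂ : T → ℂ) (φ' : T' → ℂ) → φ₁ = φ₂) ∧
    (∀ φ' : IrrCharacter T', mlt (φ' : T' → ℂ) (lam : Q → ℂ) ≠ 0 →
      ∃ φ : IrrCharacter T, mlt (φ : T → ℂ) (lam : Q → ℂ) ≠ 0 ∧ P ≤ st (φ : T → ℂ) ∧
        ¬ p ∣ mlt (φ : T → ℂ) (φ' : T' → ℂ)) := by
  classical
  obtain ⟨H, C', S, W, W', hS, hH, hSH, hC', hSP, hdec⟩ := exists_packs C lam hlin hlam hT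
  subst hT'
  set T' := K ⊓ Subgroup.normalizer (P : Set G) ⊓ st (lam : Q → ℂ) with hT'
  have hCH : C' ≤ H := hC' ▸ inf_le_left
  have hTT : T' ≤ T := hT ▸ inf_le_inf_right _ inf_le_left
  have hPT : P ≤ Subgroup.normalizer (T : Set G) :=
    hT ▸ le_normalizer_inf C.PK (normalizes_st lam hlam)
  have hPT' : P ≤ Subgroup.normalizer (T' : Set G) :=
    le_normalizer_inf C.PK' (normalizes_st lam hlam)
  have hSC : S ≤ Subgroup.normalizer (C' : Set G) := fun s hs =>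
    hC' ▸ mem_normalizer_inf_centralizer (hSH hs) (Subgroup.le_normalizer hs)
  have hinv : ∀ γ : IrrCharacter C', S ≤ st (γ : C' → ℂ) := fun γ =>
    central_le_st (Z := C') (fun z hz y hy => by
      rw [hC'] at hz
      exact Subgroup.mem_centralizer_iff.1 hz.2 y hy) _
  refine ⟨fun φ hφ hP => ?_, fun φ₁ φ₂ h₁ h₂ hP₁ hP₂ φ' h' hm₁ hm₂ => ?_, fun φ' h' => ?_⟩
  · obtain ⟨β, hβ⟩ := W.exists_res hφ
    have hSβ := (W.st_iff hlam hPT hSH hSP hdec hφ hβ).1 hP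
    obtain ⟨γ, hγ⟩ := sg_exists hSH hC' hS hH hSβ
    obtain ⟨φ', hφ', hγ'⟩ := W'.res_surj γ
    refine ⟨φ', hφ', (W'.st_iff hlam hPT' hSC hSP hdec hφ' hγ').2 (hinv γ), ?_, ?_,
      fun φ'' h'' hm => ?_⟩
    · rw [W.mlt_eq W' hTT hCH hφ hβ hφ' hγ']
      exact hγ
    · have e : ∀ {D E : Subgroup G} {χ : IrrCharacter D} {ξ : IrrCharacter E},
          Extends (χ : D → ℂ) (ξ : E → ℂ) →
          H12.degree (χ : D → ℂ) = H12.degree (ξ : E → ℂ) := fun {D E χ ξ} h => by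
        have := h 1 E.one_mem
        rw [← cast_degree, ← cast_degree] at this
        exact_mod_cast this
      rw [e hβ, e hγ']
      have h1 := res_eq_sum hCH β C'.one_mem
      simp only [← cast_degree] at h1
      have h2 : H12.degree (β : H → ℂ) = ∑ ξ : IrrCharacter C',
          mlt (β : H → ℂ) (ξ : C' → ℂ) * H12.degree (ξ : C' → ℂ) := by exact_mod_cast h1
      have hr : (H12.degree (β : H → ℂ) : ZMod p) =
          (mlt (β : H → ℂ) (γ : C' → ℂ) : ZMod p) * (H12.degree (γ : C' → ℂ) : ZMod p) := by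
        rw [h2, Nat.cast_sum, Finset.sum_eq_single γ, Nat.cast_mul]
        · intro ξ _ hne
          have hd : p ∣ mlt (β : H → ℂ) (ξ : C' → ℂ) :=
            not_not.1 fun hc => hne (sg_unique hSH hC' hS hH hSβ hc hγ)
          rw [Nat.cast_mul, (ZMod.natCast_eq_zero_iff _ _).2 hd, zero_mul]
        · simp
      have hfix : ∀ m : H, m ∈ C'.subgroupOf H ↔ ∀ s, cj hSH s m = m := fun m => by
        rw [Subgroup.mem_subgroupOf, hC', fix_cj hSH m]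
      have hpm := H12.Glauberman.mult_eq_one_or_neg_one hS hH hfix
        ((inv_cj hSH β).2 hSβ) (β := lift hCH γ) (by rw [mult_eq hCH]; exact hγ)
      rw [mult_eq hCH] at hpm
      rcases hpm with h | h <;> rw [hr, h]
      · left; rw [one_mul]
      · right; rw [neg_one_mul]
    · obtain ⟨ξ, hξ⟩ := W'.exists_res h''
      rw [W.mlt_eq W' hTT hCH hφ hβ h'' hξ] at hm
      have e : ξ = γ := sg_unique hSH hC' hS hH hSβ hm hγ
      exact W'.res_inj h'' hφ' (e ▸ hξ) hγ'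
  · obtain ⟨β₁, hβ₁⟩ := W.exists_res h₁
    obtain ⟨β₂, hβ₂⟩ := W.exists_res h₂
    obtain ⟨γ, hγ⟩ := W'.exists_res h'
    rw [W.mlt_eq W' hTT hCH h₁ hβ₁ h' hγ] at hm₁
    rw [W.mlt_eq W' hTT hCH h₂ hβ₂ h' hγ] at hm₂
    have e : β₁ = β₂ := sg_injective hSH hC' hS hH
      ((W.st_iff hlam hPT hSH hSP hdec h₁ hβ₁).1 hP₁)
      ((W.st_iff hlam hPT hSH hSP hdec h₂ hβ₂).1 hP₂) hm₁ hm₂
    exact W.res_inj h₁ h₂ hβ₁ (e ▸ hβ₂)
  · obtain ⟨γ, hγ⟩ := W'.exists_res h'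
    obtain ⟨β, hSβ, hm⟩ := sg_surjective hSH hC' hS hH γ
    obtain ⟨φ, hφ, hβ⟩ := W.res_surj β
    refine ⟨φ, hφ, (W.st_iff hlam hPT hSH hSP hdec hφ hβ).2 hSβ, ?_⟩
    rw [W.mlt_eq W' hTT hCH hφ hβ h' hγ]
    exact hm

end H87.RealP
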